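/-
Characters of the Suzuki groups, part 1: integration formula, characters induced from the tori.
-/
import Cfsg.Agent.Lib.BN.SzCount
import Cfsg.Agent.Lib.Known.Dual
import Cfsg.Agent.Lib.Char.Center

set_option autoImplicit false

namespace Cfsg.Lib.BN

open Cfsg Cfsg.Lib.Char Cfsg.Lib.Known Subgroup
open scoped ComplexConjugate IsMulCommutative

section General

variable {G : Type*} [Group G] [Fintype G]

theorem indFun_eq_sum_of_TI {K : Subgroup G} (N : Subgroup G) [Fintype N] (φ : K → ℂ) {g : G}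
    (h : ∀ x, x⁻¹ * g * x ∈ K → x ∈ N) :
    indFun K φ g = (Nat.card K : ℂ)⁻¹ * ∑ x : N, extendByZero K φ ((x : G)⁻¹ * g * x) := by
  classical
  rw [indFun_apply, ← Finset.sum_subtype (Finset.univ.filter (· ∈ N)) (by simp)
    (fun x => extendByZero K φ (x⁻¹ * g * x)), Finset.sum_filter]
  congr 1
  refine Finset.sum_congr rfl fun x _ => ?_
  split_ifs with hx
  · rfl
  · exact extendByZero_of_notMem _ fun e => hx (h x e)

theorem indFun_regChar (K : Subgroup G) : indFun K (regChar K) = regChar G := by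
  ext g
  by_cases h : g = 1
  · rw [h, indFun_one, regChar_one, regChar_one, ← Nat.cast_mul, index_mul_card]
  · rw [regChar_of_ne h]
    refine indFun_eq_zero_of_isConj _ fun y hy => regChar_of_ne ?_
    rintro rfl
    exact h (isConj_one_left.1 hy)

theorem indFun_const_eq (K : Subgroup G) (g : G) : indFun K (fun _ => 1) g =
    (Nat.card K : ℂ)⁻¹ * Nat.card (centralizer ({g} : Set G)) * {y ∈ (K : Set G) | IsConj g y}.ncard := by
  classical
  rw [indFun_eq_sum_isConj, Finset.sum_boole, ← Nat.card_coe_set_eq]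
  congr 2
  rw [← Fintype.card_subtype, ← Nat.card_eq_fintype_card]
  exact Nat.card_congr ⟨fun x => ⟨x.1.1, x.1.2, x.2⟩, fun x => ⟨⟨x.1, x.2.1⟩, x.2.2⟩, fun _ => rfl, fun _ => rfl⟩

/-- `T` is an abelian self-centralising TI-subgroup with normaliser `N` of order `e |T|`. -/
structure ATI (T N : Subgroup G) (e : ℕ) : Prop where
  comm : IsMulCommutative T
  nrm : ∀ x ∈ N, ∀ t ∈ T, x⁻¹ * t * x ∈ T
  ti : ∀ t ∈ T, t ≠ 1 → ∀ x, x⁻¹ * t * x ∈ T → x ∈ N
  cent : ∀ t ∈ T, t ≠ 1 → ∀ x, x * t = t * x → x ∈ T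
  card : Nat.card N = e * Nat.card T

namespace ATI

variable {T N : Subgroup G} {e : ℕ} (h : ATI T N e)
include h

theorem ind_apply [Fintype N] (φ : T → ℂ) {t : G} (ht : t ∈ T) (h1 : t ≠ 1) :
    indFun T φ t = (Nat.card T : ℂ)⁻¹ * ∑ x : N, φ ⟨(x : G)⁻¹ * t * x, h.nrm _ x.2 _ ht⟩ := by
  rw [indFun_eq_sum_of_TI N φ (h.ti t ht h1)]
  congr 1
  exact Finset.sum_congr rfl fun x _ => extendByZero_of_mem _ _

theorem ind_one {t : G} (ht : t ∈ T) (h1 : t ≠ 1) : indFun T (fun _ => 1) t = e := by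
  have := Fintype.ofFinite N
  rw [h.ind_apply _ ht h1, Finset.sum_const, Finset.card_univ, ← Nat.card_eq_fintype_card, h.card]
  have := Cfsg.Lib.Char.card_ne_zero T
  simp only [nsmul_eq_mul, Nat.cast_mul, mul_one]
  field_simp

theorem norm_ind_le (θ : Ch T) {t : G} (ht : t ∈ T) (h1 : t ≠ 1) : ‖indFun T (fun x => θ x) t‖ ≤ e := by
  have := Fintype.ofFinite N
  rw [h.ind_apply _ ht h1, norm_mul, norm_inv, Complex.norm_natCast, inv_mul_le_iff₀ (by exact_mod_cast Nat.card_pos)]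
  refine (norm_sum_le _ _).trans (le_of_eq ?_)
  simp only [Ch.norm_apply, Finset.sum_const, Finset.card_univ, ← Nat.card_eq_fintype_card, h.card, nsmul_eq_mul]
  push_cast; ring

/-- conjugation on `T` -/
def cj (x : N) : T →* T := MonoidHom.mk' (fun t => ⟨(x : G)⁻¹ * t * x, h.nrm _ x.2 _ t.2⟩) fun a b =>
  Subtype.ext (by simp [mul_assoc])

theorem comp_cj_eq_iff {θ : Ch T} (hθ : θ ≠ 1) (x : N) : θ = θ.comp (h.cj x) ↔ (x : G) ∈ T := by
  have := h.comm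
  constructor
  · intro e
    by_contra hx
    have hi : Function.Injective (h.cj x / MonoidHom.id T) := (injective_iff_map_eq_one _).2 fun t ht => by
      by_contra h1
      refine hx (h.cent t t.2 (fun e => h1 (Subtype.ext e)) _ ?_)
      have : (x : G)⁻¹ * t * x = t := congrArg Subtype.val (div_eq_one.1 ht)
      rw [mul_assoc, inv_mul_eq_iff_eq_mul] at this
      exact this.symm
    refine hθ (Ch.ext fun t => ?_)
    obtain ⟨s, rfl⟩ := Finite.injective_iff_surjective.1 hi t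
    rw [MonoidHom.div_apply, div_eq_mul_inv, Ch.map_mul, Ch.map_inv, ← Ch.comp_apply, ← e, MonoidHom.id_apply,
      mul_inv_cancel₀ (θ.ne_zero _), Ch.one_apply]
  · intro hx
    refine Ch.ext fun t => congrArg θ (Subtype.ext ?_)
    have : (x : G) * t = t * x := congrArg Subtype.val (mul_comm (⟨x, hx⟩ : T) t)
    change (t : G) = (x : G)⁻¹ * t * x
    rw [mul_assoc, ← this, inv_mul_cancel_left]

theorem le : T ≤ N := fun t ht => by
  by_cases h1 : t = 1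
  · exact h1 ▸ one_mem N
  · exact h.ti t ht h1 t (by simpa)

theorem inner_ind {θ : Ch T} (hθ : θ ≠ 1) : classInner (indFun T fun x => θ x) (indFun T fun x => θ x) =
    1 + ((T.index : ℂ) - e) / Nat.card T := by
  classical
  have := Fintype.ofFinite N
  have h0 := Cfsg.Lib.Char.card_ne_zero T
  have h1 : ∀ t : T, indFun T (fun x => θ x) t = (Nat.card T : ℂ)⁻¹ * ∑ x : N, θ.comp (h.cj x) t +
      if t = 1 then ((T.index : ℂ) - e) else 0 := fun t => by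
    split_ifs with ht
    · rw [ht, coe_one, indFun_one]
      simp only [Ch.map_one, Finset.sum_const, Finset.card_univ, ← Nat.card_eq_fintype_card, h.card, nsmul_eq_mul]
      push_cast; field_simp; ring
    · rw [h.ind_apply _ t.2 fun e => ht (Subtype.ext e), add_zero]; rfl
  have h2 : ∑ x : N, ∑ t : T, θ.comp (h.cj x) t * conj (θ t) = (Nat.card T : ℂ) * Nat.card T := by
    simp only [Ch.sum_mul_conj, eq_comm (b := θ), h.comp_cj_eq_iff hθ]
    rw [← Finset.sum_filter, Finset.sum_const, nsmul_eq_mul, ← Fintype.card_subtype, ← Nat.card_eq_fintype_card]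
    congr 2
    exact Nat.card_congr ⟨fun x => ⟨x.1.1, x.2⟩, fun x => ⟨⟨x.1, h.le x.2⟩, x.2⟩, fun _ => rfl, fun _ => rfl⟩
  rw [classInner_indFun_right _ (isClassFunction_indFun _), classInner_def]
  simp only [h1, add_mul, Finset.sum_add_distrib, ite_mul, zero_mul, Finset.sum_ite_eq', Finset.mem_univ, if_true,
    Ch.map_one, map_one, mul_one, mul_assoc, ← Finset.mul_sum, Finset.sum_mul]
  rw [Finset.sum_comm, h2]
  field_simp

theorem sum_ind [Fintype (Ch T)] : ∑ θ : Ch T, indFun T (fun x => θ x) = regChar G := by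
  classical
  have := h.comm
  rw [← indFun_sum, ← indFun_regChar T]
  congr 1
  ext t
  rw [Finset.sum_apply, regChar]
  convert sum_Ch_apply t

end ATI

end General

namespace Sz

variable {F : Type*} [Field F] {m : ℕ} [hF : SzField F m]

/-- `Fintype` structure on the Suzuki group -/
noncomputable scoped instance instFintypeSz : Fintype (Cfsg.Sz F m) := Fintype.ofFinite _

local notation "𝔾" => Cfsg.Sz F m
local notation "𝔷" => U (F := F) m 0 1
local notation "𝔶" => U (F := F) m 1 0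
local notation "𝕜" => ((2 : ℂ) ^ m)

theorem IsOddPart.ati {T : Subgroup 𝔾} (h : IsOddPart m T) {e : ℕ}
    (he : Nat.card (normalizer (T : Set 𝔾)) = e * Nat.card T) : ATI T (normalizer (T : Set 𝔾)) e where
  comm := ⟨⟨fun a b => Subtype.ext (h.comm a.2 b.2)⟩⟩
  nrm x hx t ht := by simpa using (mem_normalizer_iff.1 (inv_mem hx) t).1 ht
  ti t ht h1 x hx := h.mem_normalizer ht h1 hx
  cent t ht h1 x hx := h.centralizer_eq ht h1 ▸ mem_centralizer_singleton_iff.2 hx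
  card := he

theorem k_ne : 𝕜 ≠ 0 := pow_ne_zero _ two_ne_zero

theorem cast_q : ((2 ^ (2 * m + 1) : ℕ) : ℂ) = 2 * 𝕜 ^ 2 := by push_cast; ring

theorem cast_r : ((2 ^ (m + 1) : ℕ) : ℂ) = 2 * 𝕜 := by push_cast; ring

theorem cast_q_sub : ((2 ^ (2 * m + 1) - 1 : ℕ) : ℂ) = 2 * 𝕜 ^ 2 - 1 := by
  rw [Nat.cast_sub Nat.one_le_two_pow, cast_q, Nat.cast_one]

theorem cast_card : (Nat.card 𝔾 : ℂ) = (2 * 𝕜 ^ 2) ^ 2 * ((2 * 𝕜 ^ 2) ^ 2 + 1) * (2 * 𝕜 ^ 2 - 1) := by
  rw [card_Sz, Nat.cast_mul, cast_q_sub]; push_cast; ring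

theorem y_sq : 𝔶 * 𝔶 = 𝔷 := by simp [U_sq]

theorem z_sq : 𝔷 * 𝔷 = 1 := by simp [U_sq, U_zero]

theorem z_ne : 𝔷 ≠ 1 := by simp [U_eq_one_iff]

theorem pow_four_eq {G : Type*} [Group G] (g : G) : g ^ 4 = g * g * (g * g) := by
  rw [show 4 = 2 + 2 from rfl, pow_add, pow_two]

theorem y_four : 𝔶 ^ 4 = 1 := by rw [pow_four_eq, y_sq, z_sq]

theorem y_sq_ne : 𝔶 * 𝔶 ≠ 1 := by rw [y_sq]; exact z_ne

theorem cast_index_z : ((centralizer {𝔷}).index : ℂ) = ((2 * 𝕜 ^ 2) ^ 2 + 1) * (2 * 𝕜 ^ 2 - 1) := by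
  rw [centralizer_U_zero one_ne_zero, index_Q, Nat.cast_mul, cast_q_sub]; push_cast; ring

theorem cast_cent_y : (Nat.card (centralizer {𝔶}) : ℂ) = 4 * 𝕜 ^ 2 := by
  rw [card_centralizer_U one_ne_zero, Nat.cast_mul, cast_q]; push_cast; ring

theorem cast_cent_y' : (Nat.card (centralizer {𝔶⁻¹}) : ℂ) = 4 * 𝕜 ^ 2 := by
  rw [U_inv, card_centralizer_U one_ne_zero, Nat.cast_mul, cast_q]; push_cast; ring

theorem cast_index_of_cent {g : 𝔾} (h : (Nat.card (centralizer {g}) : ℂ) = 4 * 𝕜 ^ 2) :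
    ((centralizer {g}).index : ℂ) = 𝕜 ^ 2 * ((2 * 𝕜 ^ 2) ^ 2 + 1) * (2 * 𝕜 ^ 2 - 1) := by
  have h1 := congrArg (Nat.cast (R := ℂ)) (index_mul_card (centralizer {g}))
  rw [Nat.cast_mul, h, cast_card] at h1
  have := k_ne (m := m)
  apply mul_right_cancel₀ (b := 4 * 𝕜 ^ 2) (by simp)
  rw [h1]; ring

theorem isConj_y' {g : 𝔾} (h4 : g ^ 4 = 1) (h2 : g * g ≠ 1) (h : ¬ IsConj 𝔶 g) : IsConj 𝔶⁻¹ g := by
  obtain ⟨x, e⟩ := isConj_iff.1 ((isConj_U_one h4 h2).resolve_left h)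
  exact isConj_iff.2 ⟨x, by rw [← inv_inv g, ← e]; group⟩

/-- the classes of 2-elements -/
theorem two_cases {g : 𝔾} (h4 : g ^ 4 = 1) : g = 1 ∨ IsConj 𝔷 g ∨ IsConj 𝔶 g ∨ IsConj 𝔶⁻¹ g := by
  by_cases h1 : g = 1
  · exact Or.inl h1
  by_cases h2 : g * g = 1
  · exact Or.inr (Or.inl (isConj_of_involution z_ne z_sq h1 h2))
  by_cases h3 : IsConj 𝔶 g
  · exact Or.inr (Or.inr (Or.inl h3))
  · exact Or.inr (Or.inr (Or.inr (isConj_y' h4 h2 h3)))

theorem Fpf.pow_four_ne {g : 𝔾} (h : Fpf m g) : g ^ 4 ≠ 1 := fun h4 =>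
  let ⟨p, hp⟩ := exists_fixed_of_two_pow m (n := 2) h4; h p hp

theorem isConj_pow_iff {G : Type*} [Group G] {a b : G} (h : IsConj a b) (n : ℕ) : a ^ n = 1 ↔ b ^ n = 1 := by
  obtain ⟨x, rfl⟩ := isConj_iff.1 h
  simp [conj_pow]

/-- Integration formula for class functions constant on split and on non-split elements of odd order. -/
theorem sum_eq {ψ : 𝔾 → ℂ} (hψ : IsClassFunction 𝔾 ψ) {cH cF : ℂ} (hH : ∀ g, g ^ 4 ≠ 1 → ¬ Fpf m g → ψ g = cH)
    (hf : ∀ g, Fpf m g → ψ g = cF) : ∑ g, ψ g = ψ 1 + ((2 * 𝕜 ^ 2) ^ 2 + 1) * (2 * 𝕜 ^ 2 - 1) *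
      (ψ 𝔷 + 𝕜 ^ 2 * (ψ 𝔶 + ψ 𝔶⁻¹)) + (𝕜 ^ 2 - 1) * (2 * 𝕜 ^ 2) ^ 2 * ((2 * 𝕜 ^ 2) ^ 2 + 1) * cH +
      4 * 𝕜 ^ 6 * (2 * 𝕜 ^ 2 - 1) ^ 2 * cF := by
  classical
  have key : ∀ {ψ : 𝔾 → ℂ}, IsClassFunction 𝔾 ψ → ∀ {cF : ℂ}, (∀ g, g ^ 4 ≠ 1 → ¬ Fpf m g → ψ g = 0) →
      (∀ g, Fpf m g → ψ g = cF) → ∑ g, ψ g = ψ 1 + ((2 * 𝕜 ^ 2) ^ 2 + 1) * (2 * 𝕜 ^ 2 - 1) *
      (ψ 𝔷 + 𝕜 ^ 2 * (ψ 𝔶 + ψ 𝔶⁻¹)) + 4 * 𝕜 ^ 6 * (2 * 𝕜 ^ 2 - 1) ^ 2 * cF := by
    intro ψ hψ cF hH hf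
    have h1 : ∀ g, ψ g = (if g = 1 then ψ g else 0) + (if IsConj 𝔷 g then ψ g else 0) + (if IsConj 𝔶 g then ψ g else 0) +
        (if IsConj 𝔶⁻¹ g then ψ g else 0) + (if Fpf m g then cF else 0) := fun g => by
      have a1 : IsConj 𝔷 g → g ≠ 1 ∧ g * g = 1 := fun h => ⟨fun e => z_ne (isConj_one_right.1 (e ▸ h.symm)), by
        rw [← pow_two, ← isConj_pow_iff h, pow_two, z_sq]⟩
      have a2 : IsConj 𝔶 g → g * g ≠ 1 ∧ g ^ 4 = 1 := fun h => ⟨by
        rw [← pow_two, Ne, ← isConj_pow_iff h, pow_two]; exact y_sq_ne, (isConj_pow_iff h 4).1 y_four⟩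
      have a3 : IsConj 𝔶⁻¹ g → g * g ≠ 1 ∧ g ^ 4 = 1 := fun h => ⟨by
        rw [← pow_two, Ne, ← isConj_pow_iff h, inv_pow, inv_eq_one, pow_two]; exact y_sq_ne,
        (isConj_pow_iff h 4).1 (by rw [inv_pow, y_four, inv_one])⟩
      have a4 : IsConj 𝔶 g → ¬ IsConj 𝔶⁻¹ g := fun h h' => not_isConj_U_one_inv (h.trans h'.symm)
      have a5 : g * g = 1 → g ^ 4 = 1 := fun h => by rw [pow_four_eq, h, one_mul]
      have a6 : g = 1 → g * g = 1 := fun h => by simp [h]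
      have a7 := two_cases (g := g)
      have a8 := Fpf.pow_four_ne (g := g)
      have a9 := hH g
      have a10 := hf g
      grind
    rw [Finset.sum_congr rfl fun g _ => h1 g]
    simp only [Finset.sum_add_distrib, ← Finset.sum_filter, hψ.sum_filter_isConj, cast_index_z,
      cast_index_of_cent cast_cent_y, cast_index_of_cent cast_cent_y', Finset.filter_eq', Finset.mem_univ, if_true,
      Finset.sum_singleton, Finset.sum_const, nsmul_eq_mul]
    have h2 := congrArg (Nat.cast (R := ℂ)) (card_fpf (F := F) m)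
    rw [Set.ncard_eq_toFinset_card', Set.toFinset_ofPred] at h2
    simp only [Nat.cast_mul, Nat.cast_pow (2 ^ _), Nat.cast_pow (_ - _), cast_q_sub, cast_q, Nat.cast_ofNat] at h2
    linear_combination cF / 2 * h2
  have := key (ψ := ψ - fun _ => cH) (hψ.sub (isClassFunction_const _)) (cF := cF - cH)
    (fun g h h' => by simp [hH g h h']) fun g h => by simp [hf g h]
  simp only [Pi.sub_apply, Finset.sum_sub_distrib, Finset.sum_const, Finset.card_univ, ← Nat.card_eq_fintype_card,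
    nsmul_eq_mul, cast_card] at this
  linear_combination this

end Sz

end Cfsg.Lib.BN
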