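/-
Characters of the Suzuki groups, part 2: the character table.
-/
import Cfsg.Agent.Lib.BN.SzChar

set_option autoImplicit false

namespace Cfsg.Lib.BN.Sz

open Cfsg Cfsg.Lib.Char Cfsg.Lib.Known Subgroup
open scoped ComplexConjugate IsMulCommutative commutatorElement

variable {F : Type*} [Field F] {m : ℕ} [hF : SzField F m]

local notation "𝔾" => Cfsg.Sz F m
local notation "𝔷" => U (F := F) m 0 1
local notation "𝔶" => U (F := F) m 1 0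
local notation "𝕜" => ((2 : ℂ) ^ m)

variable (F m) in
theorem exists_psi : ∃ ψ : F → ℂ, (∀ a b, ψ (a + b) = ψ a * ψ b) ∧ ψ 1 = -1 ∧ ∀ a, ψ (σ m a) = ψ a := by
  classical
  have := charP (F := F) m
  have h0 : ∀ a b : F, (∃ c, a = σ m c + c) → ((∃ c, a + b = σ m c + c) ↔ ∃ c, b = σ m c + c) := by
    rintro a b ⟨c, rfl⟩
    refine ⟨fun ⟨d, e⟩ => ⟨c + d, ?_⟩, fun ⟨d, e⟩ => ⟨c + d, ?_⟩⟩ <;> rw [map_add] <;> grind
  have h1 : ∀ a b : F, (if ∃ c, a + b = σ m c + c then (1 : ℂ) else -1) =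
      (if ∃ c, a = σ m c + c then (1 : ℂ) else -1) * (if ∃ c, b = σ m c + c then (1 : ℂ) else -1) := fun a b => by
    by_cases ha : ∃ c, a = σ m c + c
    · simp only [h0 a b ha, ha, if_true, one_mul]
    by_cases hb : ∃ c, b = σ m c + c
    · simp only [add_comm a b, h0 b a hb, hb, if_true, mul_one]
    obtain ⟨c, hc⟩ := exists_σ_add (m := m) a
    obtain ⟨d, hd⟩ := exists_σ_add (m := m) b
    rw [if_neg ha, if_neg hb, if_pos ⟨c + d, by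
      rw [hc.resolve_left fun e => ha ⟨c, e⟩, hd.resolve_left fun e => hb ⟨d, e⟩, map_add]; grind⟩]
    norm_num
  refine ⟨fun a => if ∃ c, a = σ m c + c then 1 else -1, h1, if_neg fun ⟨c, e⟩ => σ_add_ne_one c e.symm, fun a => ?_⟩
  have := h1 (σ m a + a) a
  rw [if_pos (⟨a, rfl⟩ : ∃ c, σ m a + a = σ m c + c), one_mul, add_assoc, CharTwo.add_self_eq_zero, add_zero] at this
  exact this

theorem Q_cases (x : Q F m) : ∃ a b, x = ⟨U m a b, U_mem_Q m a b⟩ := let ⟨a, b, e⟩ := x.2; ⟨a, b, Subtype.ext e⟩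

theorem sum_Q [Fintype F] [Fintype (Q F m)] (f : Q F m → ℂ) :
    ∑ x, f x = ∑ a, ∑ b, f ⟨U m a b, U_mem_Q m a b⟩ := by
  rw [← Fintype.sum_prod_type']
  refine (Fintype.sum_bijective (fun p : F × F => (⟨U m p.1 p.2, U_mem_Q m _ _⟩ : Q F m)) ⟨fun p p' e => ?_, ?_⟩ _ _
    fun _ => rfl).symm
  · exact Prod.ext ((U_inj m).1 (congrArg Subtype.val e)).1 ((U_inj m).1 (congrArg Subtype.val e)).2
  · rintro ⟨_, a, b, rfl⟩; exact ⟨(a, b), rfl⟩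

theorem indQ_apply [Fintype Fˣ] {φ : Q F m → ℂ} (hφ : IsClassFunction _ φ) {a b : F} (h : U m a b ≠ 1) :
    indFun (Q F m) φ (U m a b) = ∑ k : Fˣ, φ ⟨U m (k * a) (k * σ m (k : F) * b), U_mem_Q m _ _⟩ := by
  have := Fintype.ofFinite (B F m)
  have := Fintype.ofFinite (Q F m)
  rw [indFun_eq_sum_of_TI (B F m) φ fun x hx => mem_B_of_conj_mem m (U_mem_Q m a b) h (Q_le_B m hx),
    ← Fintype.sum_bijective (fun p : Q F m × Fˣ => (⟨(p.1 * D m p.2)⁻¹, inv_mem (mul_mem (Q_le_B m p.1.2)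
      (H_le_B m (D_mem_H m _)))⟩ : B F m)) ⟨?_, ?_⟩
      (fun p => φ ⟨U m (p.2 * a) (p.2 * σ m (p.2 : F) * b), U_mem_Q m _ _⟩), Fintype.sum_prod_type]
  · rw [Finset.sum_eq_card_nsmul (b := ∑ k : Fˣ, φ ⟨U m (k * a) (k * σ m (k : F) * b), U_mem_Q m _ _⟩) fun _ _ => rfl,
      Finset.card_univ, ← Nat.card_eq_fintype_card, nsmul_eq_mul, inv_mul_cancel_left₀ (Cfsg.Lib.Char.card_ne_zero _)]
  · rintro ⟨u, k⟩
    simp only [inv_inv, _root_.mul_inv_rev]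
    rw [show (u : 𝔾) * D m k * U m a b * ((D m k)⁻¹ * (u : 𝔾)⁻¹) = u * (D m k * U m a b * (D m k)⁻¹) * (u : 𝔾)⁻¹ by group,
      hφ.extendByZero_conj _ u.2, D_conj_U, extendByZero_of_mem]
  · rintro ⟨⟨_, c, d, rfl⟩, k⟩ ⟨⟨_, c', d', rfl⟩, k'⟩ e
    obtain ⟨rfl, rfl, rfl⟩ := (U_mul_D_inj m).1 (inv_injective (congrArg Subtype.val e))
    rfl
  · intro x
    obtain ⟨c, d, k, e⟩ := (mem_B m).1 (inv_mem x.2)
    exact ⟨(⟨_, U_mem_Q m c d⟩, k), Subtype.ext (by simp [← e])⟩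

/-- a generalised character with given values at the 2-elements -/
structure Val (φ : 𝔾 → ℂ) (a b c d : ℂ) : Prop where
  gen : IsGeneralizedCharacter 𝔾 φ
  one : φ 1 = a
  z : φ 𝔷 = b
  y : φ 𝔶 = c
  y' : φ 𝔶⁻¹ = d

theorem Val.conj {φ : 𝔾 → ℂ} {a b c d : ℂ} (h : Val φ a b c d) :
    Val (fun g => conj (φ g)) (conj a) (conj b) (conj c) (conj d) :=
  ⟨h.gen.conj, congrArg _ h.one, congrArg _ h.z, congrArg _ h.y, congrArg _ h.y'⟩

theorem Val.inner {φ φ' : 𝔾 → ℂ} {a b c d a' b' c' d' cH cF : ℂ} (h : Val φ a b c d) (h' : Val φ' a' b' c' d')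
    (hH : ∀ g, g ^ 4 ≠ 1 → ¬ Fpf m g → φ g * conj (φ' g) = cH) (hf : ∀ g, Fpf m g → φ g * conj (φ' g) = cF) :
    (2 * 𝕜 ^ 2) ^ 2 * ((2 * 𝕜 ^ 2) ^ 2 + 1) * (2 * 𝕜 ^ 2 - 1) * classInner φ φ' =
      a * conj a' + ((2 * 𝕜 ^ 2) ^ 2 + 1) * (2 * 𝕜 ^ 2 - 1) * (b * conj b' + 𝕜 ^ 2 * (c * conj c' + d * conj d')) +
      (𝕜 ^ 2 - 1) * (2 * 𝕜 ^ 2) ^ 2 * ((2 * 𝕜 ^ 2) ^ 2 + 1) * cH + 4 * 𝕜 ^ 6 * (2 * 𝕜 ^ 2 - 1) ^ 2 * cF := by
  rw [← cast_card (F := F) (m := m), card_mul_classInner, sum_eq (ψ := fun g => φ g * conj (φ' g))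
    (h.gen.isClassFunction.mul h'.gen.isClassFunction.conj) hH hf, h.one, h.z, h.y, h.y', h'.one, h'.z, h'.y, h'.y']

variable (F m) in
include hF in
theorem card_ne : (2 * 𝕜 ^ 2) ^ 2 * ((2 * 𝕜 ^ 2) ^ 2 + 1) * (2 * 𝕜 ^ 2 - 1) ≠ 0 :=
  cast_card (F := F) (m := m) ▸ Cfsg.Lib.Char.card_ne_zero _

theorem indQ_odd (φ : Q F m → ℂ) {g : 𝔾} (h : g ^ 4 ≠ 1) : indFun (Q F m) φ g = 0 :=
  indFun_eq_zero_of_forall_notMem _ fun _ hx => h (pow_four_of_conj_mem_Q hx)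

theorem cast_index_Q : ((Q F m).index : ℂ) = ((2 * 𝕜 ^ 2) ^ 2 + 1) * (2 * 𝕜 ^ 2 - 1) := by
  rw [← cast_index_z (F := F), centralizer_U_zero one_ne_zero]

theorem isIrr_hom {G : Type*} [Group G] (f : G →* ℂ) : IsIrrCharacter G f := (Ch.of f.toHomUnits).isIrr

theorem sum_units [Fintype F] [Fintype Fˣ] (f : F → ℂ) : ∑ k : Fˣ, f k = ∑ a, f a - f 0 := by
  classical
  rw [← Finset.sum_erase_eq_sub (Finset.mem_univ _)]
  exact Finset.sum_bij (fun k _ => (k : F)) (by simp) (fun _ _ _ _ => Units.ext) (fun b hb =>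
    ⟨Units.mk0 b (by simpa using hb), by simp, rfl⟩) fun _ _ => rfl

section psi
variable {ψ : F → ℂ} (h1 : ∀ a b, ψ (a + b) = ψ a * ψ b) (h2 : ψ 1 = -1)
include h1 h2

theorem psi_zero : ψ 0 = 1 := by simpa [h2] using (h1 0 1).symm

theorem sum_psi [Fintype F] : ∑ a, ψ a = 0 := by
  have := Equiv.sum_comp (Equiv.addRight (1 : F)) ψ
  simp only [Equiv.coe_addRight, h1, h2, mul_neg, mul_one, Finset.sum_neg_distrib] at this
  linear_combination -this / 2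

end psi

variable (F m) in
theorem exists_A : ∃ A : 𝔾 → ℂ, Val A (((2 * 𝕜 ^ 2) ^ 2 + 1) * (2 * 𝕜 ^ 2 - 1)) (2 * 𝕜 ^ 2 - 1) (-1) (-1) ∧
    ∀ g, g ^ 4 ≠ 1 → A g = 0 := by
  classical
  have := hF.finite
  have := Fintype.ofFinite F
  obtain ⟨ψ, h1, h2, -⟩ := exists_psi F m
  let f : Q F m →* ℂ :=
    { toFun x := ψ (x.1.1.1 0 1)
      map_one' := by simpa using psi_zero h1 h2
      map_mul' x y := by
        obtain ⟨a, b, rfl⟩ := Q_cases x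
        obtain ⟨c, d, rfl⟩ := Q_cases y
        simp only [MulMemClass.mk_mul_mk, U_mul, coe_U]
        exact h1 a c }
  have hf := (isIrr_hom f).isCharacter
  have h3 : indFun (Q F m) f 𝔶 = -1 := by
    rw [indQ_apply hf.isClassFunction (by simp [U_eq_one_iff])]
    change ∑ k : Fˣ, ψ (k * 1) = _
    simp only [mul_one, sum_units ψ, sum_psi h1 h2, psi_zero h1 h2, zero_sub]
  refine ⟨indFun (Q F m) f, ⟨hf.indFun.isGeneralizedCharacter, by rw [indFun_one, map_one, mul_one, cast_index_Q], ?_, h3,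
    by rw [hf.indFun.apply_inv, h3]; simp⟩, fun g => indQ_odd _⟩
  rw [indQ_apply hf.isClassFunction z_ne]
  change ∑ k : Fˣ, ψ (k * 0) = _
  simp only [mul_zero, psi_zero h1 h2, Finset.sum_const, Finset.card_univ, nsmul_eq_mul, mul_one]
  rw [Fintype.card_units, ← Nat.card_eq_fintype_card, hF.card_eq, cast_q_sub]

variable (F m) in
theorem exists_mu : ∃ (ψ : F → ℂ) (χ : Q F m → ℂ) (ω : ℂ), (∀ a b, ψ (a + b) = ψ a * ψ b) ∧ ψ 1 = -1 ∧ IsCharacter _ χ ∧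
    ω ^ 2 = -1 ∧ (∀ b, χ ⟨U m 0 b, U_mem_Q ..⟩ = 𝕜 * ψ b) ∧ χ ⟨U m 1 0, U_mem_Q ..⟩ = 𝕜 * ω ∧
    ∀ a b, a ≠ 0 → a ≠ 1 → χ ⟨U m a b, U_mem_Q ..⟩ = 0 := by
  classical
  have := hF.finite
  have := Fintype.ofFinite F
  have := charP (F := F) m
  obtain ⟨ψ, h1, h2, h3⟩ := exists_psi F m
  have h0 := psi_zero h1 h2
  have hs : ∀ a, ψ a * ψ a = 1 := fun a => by rw [← h1, CharTwo.add_self_eq_zero, h0]
  let f : (Z F m).subgroupOf (Q F m) →* ℂ :=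
    { toFun x := ψ (x.1.1.1.1 1 3)
      map_one' := by simpa using h0
      map_mul' x y := by
        obtain ⟨b, hb⟩ : ∃ b, x.1.1 = U m 0 b := x.2
        obtain ⟨d, hd⟩ : ∃ b, y.1.1 = U m 0 b := y.2
        simp only [coe_mul, hb, hd, U_mul, coe_U]
        simpa [Umat] using h1 b d }
  obtain ⟨χ, hχ, h4⟩ := (isIrr_hom f).exists_lying_over
  obtain ⟨lam, h5⟩ := hχ.exists_linear_of_le_center (Z := (Z F m).subgroupOf (Q F m)) (by
    rintro ⟨_, _⟩ ⟨b, rfl⟩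
    refine mem_center_iff.2 ?_
    rintro ⟨_, c, d, rfl⟩
    exact Subtype.ext (by simp [U_mul, add_comm]))
  have h6 : (fun z => (lam z : ℂ)) = f := (isIrrCharacter_linear lam).eq_of_classInner_ne_zero (isIrr_hom f) fun e => h4 (by
    rw [show (fun h : (Z F m).subgroupOf (Q F m) => χ h) = χ 1 • fun z => (lam z : ℂ) from
      funext fun z => by simpa [mul_comm] using h5 z 1, classInner_smul_left, e, mul_zero])
  have h7 : ∀ b y, χ (⟨U m 0 b, U_mem_Q ..⟩ * y) = ψ b * χ y := fun b y =>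
    (h5 ⟨⟨U m 0 b, U_mem_Q ..⟩, U_mem_Z m b⟩ y).trans (congrArg (· * χ y) (congrFun h6 _))
  have h8 : ∀ a c : F, ψ (σ m a * c + σ m c * a) = ψ ((σ m a + ρ m a) * c) := fun a c => by
    rw [add_mul, h1, h1, ← h3 (ρ m a * c), map_mul, σ_ρ, mul_comm a]
  have h9 : ∀ a b, a ≠ 0 → a ≠ 1 → χ ⟨U m a b, U_mem_Q ..⟩ = 0 := fun a b ha ha' => by
    have e1 : σ m a + ρ m a ≠ 0 := fun e => by
      have := congrArg (σ m) e
      rw [map_add, σ_σ, σ_ρ, map_zero, CharTwo.add_eq_zero, pow_two] at this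
      exact ha' (mul_left_cancel₀ ha (this.trans (mul_one a).symm))
    have e2 := h7 (σ m (σ m a + ρ m a)⁻¹ * a + σ m a * (σ m a + ρ m a)⁻¹) ⟨U m a b, U_mem_Q ..⟩
    rw [add_comm (σ m _ * a), h8, mul_inv_cancel₀ e1, h2, ← hχ.isClassFunction.conj_eq ⟨U m a b, U_mem_Q ..⟩
      ⟨U m (σ m a + ρ m a)⁻¹ 0, U_mem_Q ..⟩] at e2
    have e3 : ∀ x y : ℂ, x = -1 * y → x = y → y = 0 := fun x y h h' => by linear_combination (h - h') / 2
    rw [← hχ.isClassFunction.conj_eq _ ⟨U m (σ m a + ρ m a)⁻¹ 0, U_mem_Q ..⟩]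
    refine e3 _ _ e2 (congrArg χ (Subtype.ext ?_))
    simp only [MulMemClass.mk_mul_mk, coe_mul, coe_inv]
    rw [add_comm, ← commutator_U, commutatorElement_def, inv_mul_cancel_right]
  obtain ⟨c, hc⟩ : (⟨U m 1 0, U_mem_Q ..⟩ : Q F m) ∈ charCenter χ := hχ.mem_charCenter_iff_commutator.2 (by
    intro y
    obtain ⟨c, d, rfl⟩ := Q_cases y
    refine hχ.mem_charKer.2 ?_
    have := h7 (σ m 1 * c + σ m c * 1) 1
    rw [h8, mul_one] at this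
    simp only [map_one, CharTwo.add_self_eq_zero, zero_mul, h0, one_mul] at this
    rw [← this]
    exact congrArg χ (Subtype.ext ((commutator_U m 1 0 c d).trans (by simp))))
  obtain ⟨n, hn⟩ := hχ.isCharacter.exists_nat_degree
  have hω : (c : ℂ) ^ 2 = -1 := by
    have e1 := hc ⟨U m 1 0, U_mem_Q ..⟩
    have e2 := hc 1
    have e3 := h7 1 1
    rw [mul_one] at e2 e3
    rw [MulMemClass.mk_mul_mk] at e1
    simp only [y_sq] at e1
    refine mul_right_cancel₀ hχ.apply_one_ne_zero ?_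
    rw [← h2, ← e3, e1, e2]; ring
  have hω' : ‖(c : ℂ)‖ ^ 2 = 1 := by rw [← norm_pow, hω]; simp
  have hψ : ∀ b, ‖ψ b‖ ^ 2 = 1 := fun b => by rw [← norm_pow, pow_two, hs]; simp
  have h10 : ∀ b, χ ⟨U m 0 b, U_mem_Q ..⟩ = ψ b * n := fun b => by simpa [hn] using h7 b 1
  have h11 : ∀ b, χ ⟨U m 1 b, U_mem_Q ..⟩ = c * (ψ b * n) := fun b => by simpa [h10, U_mul] using hc ⟨U m 0 b, U_mem_Q ..⟩
  have hk : (n : ℂ) = 𝕜 := by
    have e1 := congrArg (Complex.ofReal) hχ.sum_norm_sq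
    push_cast at e1
    rw [sum_Q, Finset.sum_eq_add_of_mem 0 1 (by simp) (by simp) zero_ne_one fun a _ ha => by simp [h9 a _ ha.1 ha.2]] at e1
    simp only [h10, h11, norm_mul, Complex.ofReal_mul, mul_pow, ← Complex.ofReal_pow, hω', hψ, card_Q] at e1
    simp only [Complex.ofReal_one, one_mul, Finset.sum_const, Finset.card_univ, ← Nat.card_eq_fintype_card, hF.card_eq,
      nsmul_eq_mul, Complex.norm_natCast, Nat.cast_pow (2 ^ _), cast_q] at e1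
    push_cast at e1
    have e2 : ((n ^ 2 : ℕ) : ℂ) = ((2 ^ m) ^ 2 : ℕ) := by
      push_cast
      apply mul_left_cancel₀ (a := 4 * 𝕜 ^ 2) (by simp)
      linear_combination e1
    rw [Nat.pow_left_injective two_ne_zero (Nat.cast_injective e2)]; simp
  exact ⟨ψ, χ, c, h1, h2, hχ.isCharacter, hω, fun b => by rw [h10, hk, mul_comm], by rw [h11, hk, h0]; ring, h9⟩

theorem conj_omega {ω : ℂ} (h : ω ^ 2 = -1) : conj ω = -ω := by
  rcases sq_eq_sq_iff_eq_or_eq_neg.1 (h.trans Complex.I_sq.symm) with rfl | rfl <;> simp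

variable (F m) in
theorem exists_M : ∃ (M : 𝔾 → ℂ) (ω : ℂ), ω ^ 2 = -1 ∧
    Val M (𝕜 * (((2 * 𝕜 ^ 2) ^ 2 + 1) * (2 * 𝕜 ^ 2 - 1))) (-𝕜) (𝕜 * ω) (-(𝕜 * ω)) ∧ ∀ g, g ^ 4 ≠ 1 → M g = 0 := by
  classical
  have := hF.finite
  have := Fintype.ofFinite F
  obtain ⟨ψ, χ, ω, h1, h2, hχ, hω, h3, h4, h5⟩ := exists_mu F m
  have h6 : indFun (Q F m) χ 𝔶 = 𝕜 * ω := by
    rw [indQ_apply hχ.isClassFunction (by simp [U_eq_one_iff]), Finset.sum_eq_single 1 (fun k _ hk => h5 _ _ (by simp)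
      (by simpa using hk)) (by simp), ← h4]
    simp
  refine ⟨indFun (Q F m) χ, ω, hω, ⟨hχ.indFun.isGeneralizedCharacter, ?_, ?_, h6,
    by rw [hχ.indFun.apply_inv, h6]; simp [conj_omega hω, Complex.conj_ofNat]⟩, fun g => indQ_odd _⟩
  · have := h3 0
    simp only [U_zero, psi_zero h1 h2] at this
    rw [indFun_one, cast_index_Q, show χ 1 = _ from this]; ring
  · rw [indQ_apply hχ.isClassFunction z_ne]
    simp only [mul_zero, h3, mul_one]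
    rw [← Finset.mul_sum, sum_units (fun k => ψ (k * σ m k)), (Function.Bijective.sum_comp
      ⟨fun _ _ => mul_σ_injective m, mul_σ_surjective m⟩ ψ), sum_psi h1 h2]
    simp [psi_zero h1 h2]

theorem mem_cover_H_iff {g : 𝔾} (h : g ^ 4 ≠ 1) : g ∈ tiCover ⊤ (H F m) ↔ ¬ Fpf m g := by
  refine ⟨fun ⟨_, x, _, hx⟩ => not_fpf_of_conj_mem_B m (H_le_B m hx), fun h' => ?_⟩
  rcases mem_cover_or m (g := g) (by rintro rfl; simp at h) with ⟨_, x, _, hx⟩ | h1 | h1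
  exacts [absurd (pow_four_of_conj_mem_Q hx) h, h1, absurd h1 h']

variable (F m) in
theorem exists_St : ∃ S : 𝔾 → ℂ, IsIrrCharacter 𝔾 S ∧ Val S ((2 * 𝕜 ^ 2) ^ 2) 0 0 0 ∧
    (∀ g, g ^ 4 ≠ 1 → ¬ Fpf m g → S g = 1) ∧ ∀ g, Fpf m g → S g = -1 := by
  have hπ := isCharacter_fixedBy (G := 𝔾) (suzukiOvoid F m)
  have h1 : ∀ u ∈ Q F m, u ≠ 1 → (Nat.card (MulAction.fixedBy (suzukiOvoid F m) u) : ℂ) - 1 = 0 := fun u hu h1 => by
    rw [show MulAction.fixedBy (suzukiOvoid F m) u = {inf F m} from Set.eq_singleton_iff_unique_mem.2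
      ⟨Q_le_B m hu, fun p hp => eq_inf_of_mem_Q m hu h1 hp⟩]
    simp
  have h2 : Val (fun g : 𝔾 => (Nat.card (MulAction.fixedBy (suzukiOvoid F m) g) : ℂ) - 1) ((2 * 𝕜 ^ 2) ^ 2) 0 0 0 :=
    ⟨hπ.isGeneralizedCharacter.sub isGeneralizedCharacter_one, by
      rw [MulAction.fixedBy_one_eq_univ, Nat.card_univ, card_ovoid]; push_cast; ring,
      h1 _ (U_mem_Q ..) z_ne, h1 _ (U_mem_Q ..) (by simp [U_eq_one_iff]),
      h1 _ (inv_mem (U_mem_Q ..)) (by simp [U_eq_one_iff])⟩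
  have h3 : ∀ g : 𝔾, g ^ 4 ≠ 1 → ¬ Fpf m g → (Nat.card (MulAction.fixedBy (suzukiOvoid F m) g) : ℂ) - 1 = 1 :=
    fun g h h' => by
      obtain ⟨h4, x, -, hx⟩ := (mem_cover_H_iff h).2 h'
      rw [← hπ.isClassFunction.conj_eq' g x, show MulAction.fixedBy (suzukiOvoid F m) (x⁻¹ * g * x) = {inf F m, pt m 0 0} from
        Set.ext fun p => ⟨eq_or_eq_of_mem_H m hx (conj_ne_one h4 x), by
          rintro (rfl | rfl)
          exacts [((H_eq_inf m).le hx).1, ((H_eq_inf m).le hx).2]⟩, Nat.card_coe_set_eq, Set.ncard_pair (pt_ne_inf m (0 : F) 0).symm]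
      norm_num
  have h4 : ∀ g : 𝔾, Fpf m g → (Nat.card (MulAction.fixedBy (suzukiOvoid F m) g) : ℂ) - 1 = -1 := fun g h => by
    rw [show MulAction.fixedBy (suzukiOvoid F m) g = ∅ from Set.eq_empty_of_forall_notMem h]
    simp
  refine ⟨_, h2.gen.isIrrCharacter_of_norm_one ?_ ?_, h2, h3, h4⟩
  · refine mul_left_cancel₀ (card_ne F m) ?_
    rw [h2.inner h2 (cH := 1) (cF := 1) (fun g h h' => by rw [h3 g h h']; simp) fun g h => by rw [h4 g h]; simp]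
    simp only [map_pow, map_mul, Complex.conj_ofNat]
    ring
  · rw [h2.one, show (2 * 𝕜 ^ 2) ^ 2 = (((2 * (2 ^ m) ^ 2) ^ 2 : ℕ) : ℂ) by push_cast; rfl, Complex.natCast_re]
    positivity

end Cfsg.Lib.BN.Sz
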