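/-
Characters of the Suzuki groups, part 3: the character table (`exists_tab`).
-/
import Cfsg.Agent.Lib.BN.SzChar2

set_option autoImplicit false

namespace Cfsg.Lib.BN.Sz

open Cfsg Cfsg.Lib.Char Cfsg.Lib.Known Subgroup
open scoped ComplexConjugate IsMulCommutative commutatorElement

variable {F : Type*} [Field F] {m : ℕ} [hF : SzField F m]

local notation "𝔾" => Cfsg.Sz F m
local notation "𝔷" => U (F := F) m 0 1
local notation "𝔶" => U (F := F) m 1 0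
local notation "𝕜" => ((2 : ℂ) ^ m)

theorem IsOddPart.four_of_cover {T : Subgroup 𝔾} (h : IsOddPart m T) {g : 𝔾} (hg : g ∈ tiCover ⊤ T) : g ^ 4 ≠ 1 := by
  obtain ⟨h1, x, -, hx⟩ := hg
  have := h.pow_four_ne_one hx (conj_ne_one h1 x)
  rwa [Ne, ← isConj_pow_iff (isConj_iff.2 ⟨x⁻¹, by rw [inv_inv]⟩ : IsConj g (x⁻¹ * g * x))] at this

theorem ind_off {T : Subgroup 𝔾} (φ : T → ℂ) {g : 𝔾} (h1 : g ≠ 1) (hg : g ∉ tiCover ⊤ T) : indFun T φ g = 0 :=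
  indFun_eq_zero_of_forall_notMem _ fun x hx => hg ⟨h1, x, mem_top x, hx⟩

theorem y_ne : 𝔶 ≠ 1 := by simp [U_eq_one_iff]

theorem y_ne' : 𝔶⁻¹ ≠ 1 := inv_ne_one.2 y_ne

theorem IsOddPart.val_ind {T : Subgroup 𝔾} (h : IsOddPart m T) (θ : Ch T) : Val (indFun T fun x => θ x) T.index 0 0 0 :=
  ⟨θ.isChar.indFun.isGeneralizedCharacter, by rw [indFun_one, θ.map_one, mul_one],
    ind_off _ z_ne fun e => h.four_of_cover e (by rw [pow_four_eq, z_sq, one_mul]),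
    ind_off _ y_ne fun e => h.four_of_cover e y_four,
    ind_off _ (inv_ne_one.2 y_ne) fun e => h.four_of_cover e (by rw [inv_pow, y_four, inv_one])⟩

theorem ne_one_of_four {G : Type*} [Group G] {g : G} (h : g ^ 4 ≠ 1) : g ≠ 1 := by rintro rfl; simp at h

theorem IsTorus.exists_J {T : Subgroup 𝔾} (h : IsTorus m T) : ∃ J : 𝔾 → ℂ, Val J (T.index / 4) (𝕜 ^ 4) (𝕜 ^ 2) (𝕜 ^ 2) ∧
    (∀ g ∈ tiCover ⊤ T, J g = 1) ∧ ∀ g, g ^ 4 ≠ 1 → g ∉ tiCover ⊤ T → J g = 0 := by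
  have h0 := Cfsg.Lib.Char.card_ne_zero T
  have h4 := h.card_eq.2
  refine ⟨indFun (normalizer (T : Set 𝔾)) fun _ => 1, ⟨isCharacter_one.indFun.isGeneralizedCharacter, ?_, ?_, ?_, ?_⟩,
    ?_, fun g hg hg' => ?_⟩
  · have e := congrArg (Nat.cast (R := ℂ)) ((index_mul_card (normalizer (T : Set 𝔾))).trans (index_mul_card T).symm)
    rw [h4] at e
    push_cast at e
    rw [indFun_one, mul_one]
    field_simp at e ⊢
    exact e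
  · rw [indFun_const_eq, show {y ∈ (normalizer (T : Set 𝔾) : Set 𝔾) | IsConj 𝔷 y} =
      {s | s ∈ normalizer (T : Set 𝔾) ∧ s ≠ 1 ∧ s * s = 1} from Set.ext fun s => and_congr_right fun _ =>
        ⟨fun e => ⟨fun e' => z_ne (isConj_one_right.1 (e' ▸ e.symm)), by rw [← pow_two, ← isConj_pow_iff e, pow_two, z_sq]⟩,
          fun e => isConj_of_involution z_ne z_sq e.1 e.2⟩, h.isOddPart.ncard_involution, h4,
      centralizer_U_zero one_ne_zero, card_Q]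
    push_cast; field_simp; ring
  · rw [indFun_const_eq, h.ncard_isConj y_four y_sq_ne, h4, cast_cent_y]
    push_cast; field_simp
  · rw [indFun_const_eq, h.ncard_isConj (by rw [inv_pow, y_four, inv_one])
      (by rw [← _root_.mul_inv_rev, Ne, inv_eq_one]; exact y_sq_ne), h4, cast_cent_y']
    push_cast; field_simp
  · rintro g ⟨h1, x, -, hx⟩
    have := Fintype.ofFinite (normalizer (T : Set 𝔾))
    have h2 := conj_ne_one h1 x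
    rw [← (isClassFunction_indFun _).conj_eq' g x, indFun_eq_sum_of_TI (normalizer (T : Set 𝔾)) _ fun y hy =>
      h.mem_normalizer hx h2 (h.isOddPart.mem_of_pow_four_ne_one hy (by
        rw [Ne, ← isConj_pow_iff (isConj_iff.2 ⟨y⁻¹, by rw [inv_inv]⟩ : IsConj (x⁻¹ * g * x) _)]
        exact h.isOddPart.pow_four_ne_one hx h2)),
      Finset.sum_eq_card_nsmul (b := 1) fun y _ => extendByZero_of_mem _ (mul_mem (mul_mem (inv_mem y.2)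
        (le_normalizer hx)) y.2), Finset.card_univ, ← Nat.card_eq_fintype_card, nsmul_one,
      inv_mul_cancel₀ (Cfsg.Lib.Char.card_ne_zero _)]
  · refine indFun_eq_zero_of_forall_notMem _ fun x hx => hg' ⟨ne_one_of_four hg, x, mem_top x,
      h.isOddPart.mem_of_pow_four_ne_one hx ?_⟩
    rwa [Ne, ← isConj_pow_iff (isConj_iff.2 ⟨x⁻¹, by rw [inv_inv]⟩ : IsConj g _)]

/-- an irreducible character belonging to the torus `T` -/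
structure RT (T : Subgroup 𝔾) (e : ℕ) (d a b : ℂ) (χ : 𝔾 → ℂ) : Prop where
  irr : IsIrrCharacter 𝔾 χ
  val : Val χ d a b b
  off : ∀ g, g ^ 4 ≠ 1 → g ∉ tiCover ⊤ T → χ g = 0
  bd : ∀ g, g ^ 4 ≠ 1 → ‖χ g‖ ≤ e

theorem IsOddPart.rt {T : Subgroup 𝔾} (h : IsOddPart m T) {e : ℕ} (he : Nat.card (normalizer (T : Set 𝔾)) = e * Nat.card T)
    {Γ : 𝔾 → ℂ} {a b : ℂ} (hΓ : Val Γ a b (-1) (-1)) (hΓ' : ∀ g, g ^ 4 ≠ 1 → Γ g = 0) (ha : conj a = a) (hb : conj b = b)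
    {s : ℤ} (hs : s = 1 ∨ s = -1) {d : ℕ} (hd : s * (T.index - a) = d)
    (hn : (d : ℂ) ^ 2 + ((2 * 𝕜 ^ 2) ^ 2 + 1) * (2 * 𝕜 ^ 2 - 1) * (b ^ 2 + 2 * 𝕜 ^ 2) = e * T.index) :
    (∃ χ, RT T e d (-s * b) s χ) ∧ ∀ χ, IsIrrCharacter 𝔾 χ → ¬ RT T e d (-s * b) s χ →
      classInner (regChar 𝔾 - indFun T (fun _ => 1) - ((Nat.card T : ℂ) - 1) • Γ) χ = 0 := by
  classical
  have hT := h.ati he
  have := hT.comm
  have hs2 : (s : ℂ) ^ 2 = 1 := by rcases hs with rfl | rfl <;> simp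
  have key : ∀ θ : Ch T, θ ≠ 1 → RT T e d (-s * b) s ((s : ℂ) • ((indFun T fun x => θ x) - Γ)) := fun θ hθ => by
    have h1 := h.val_ind θ
    have h2 : Val ((s : ℂ) • ((indFun T fun x => θ x) - Γ)) d (-s * b) s s :=
      ⟨(h1.gen.sub hΓ.gen).intCast_smul s, by simp [h1.one, hΓ.one, hd], by simp [h1.z, hΓ.z], by simp [h1.y, hΓ.y],
        by simp [h1.y', hΓ.y']⟩
    refine ⟨h2.gen.isIrrCharacter_of_norm_one ?_ (by simp [h2.one]), h2, fun g h3 h4 => by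
      simp [hΓ' g h3, ind_off _ (ne_one_of_four h3) h4], fun g h3 => ?_⟩
    · have e1 := h1.inner hΓ (cH := 0) (cF := 0) (fun g h _ => by simp [hΓ' g h]) fun g h => by simp [hΓ' g h.pow_four_ne]
      have e2 := hΓ.inner h1 (cH := 0) (cF := 0) (fun g h _ => by simp [hΓ' g h]) fun g h => by simp [hΓ' g h.pow_four_ne]
      have e3 := hΓ.inner hΓ (cH := 0) (cF := 0) (fun g h _ => by simp [hΓ' g h]) fun g h => by simp [hΓ' g h.pow_four_ne]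
      have e4 := congrArg (Nat.cast (R := ℂ)) (index_mul_card T)
      have e5 := hT.inner_ind hθ
      have h0 := Cfsg.Lib.Char.card_ne_zero T
      rw [Nat.cast_mul, cast_card] at e4
      field_simp at e5
      simp only [ha, hb, map_natCast, map_zero, map_neg, map_one] at e1 e2 e3
      refine mul_left_cancel₀ (card_ne F m) ?_
      simp only [classInner_smul_left, classInner_smul_right, classInner_sub_left, classInner_sub_right, map_intCast]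
      linear_combination (s : ℂ) ^ 2 * (e3 - e1 - e2 + T.index * e5 - (classInner (indFun T fun x => θ x)
        (indFun T fun x => θ x) - 1) * e4 + hn) + (s * (T.index - a) + d) * s ^ 2 * hd +
        ((2 * 𝕜 ^ 2) ^ 2 * ((2 * 𝕜 ^ 2) ^ 2 + 1) * (2 * 𝕜 ^ 2 - 1) - s ^ 2 * (T.index - a) ^ 2) * hs2
    · rw [Pi.smul_apply, Pi.sub_apply, hΓ' g h3, sub_zero, norm_smul, show ‖(s : ℂ)‖ = 1 by rcases hs with rfl | rfl <;> simp,
        one_mul]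
      by_cases h4 : g ∈ tiCover ⊤ T
      · obtain ⟨h5, x, -, hx⟩ := h4
        rw [← (isClassFunction_indFun _).conj_eq' g x]
        exact hT.norm_ind_le θ hx (conj_ne_one h5 x)
      · simp [ind_off _ (ne_one_of_four h3) h4]
  refine ⟨?_, fun χ hχ hn => ?_⟩
  · obtain ⟨x, hx, h1⟩ := h.exists_ne_one
    obtain ⟨θ, hθ⟩ := exists_Ch_ne_one (a := (⟨x, hx⟩ : T)) fun e => h1 (congrArg Subtype.val e)
    exact ⟨_, key θ (by rintro rfl; exact hθ rfl)⟩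
  · have e1 : regChar 𝔾 - indFun T (fun _ => 1) - ((Nat.card T : ℂ) - 1) • Γ =
        ∑ θ ∈ Finset.univ.erase (1 : Ch T), (s : ℂ) • (s : ℂ) • ((indFun T fun x => θ x) - Γ) := by
      simp only [smul_smul, ← pow_two, hs2, one_smul, Finset.sum_sub_distrib, Finset.sum_erase_eq_sub (Finset.mem_univ _),
        hT.sum_ind, Finset.sum_const, Finset.card_univ, ← Nat.card_eq_fintype_card, card_Ch, sub_smul, Nat.cast_smul_eq_nsmul,
        Ch.one_apply]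
      abel
    rw [e1, classInner_sum_left]
    refine Finset.sum_eq_zero fun θ hθ => ?_
    have := key θ (Finset.ne_of_mem_erase hθ)
    rw [classInner_smul_left, this.irr.classInner_of_ne hχ fun e => hn (e ▸ this), mul_zero]

/-- The character table of the Suzuki group. -/
structure Tab (T₁ T₂ : Subgroup 𝔾) (S W : 𝔾 → ℂ) (ω : ℂ) : Prop where
  t1 : IsTorus m T₁
  t2 : IsTorus m T₂
  c1 : (Nat.card T₁ : ℂ) = 2 * 𝕜 ^ 2 + 2 * 𝕜 + 1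
  c2 : (Nat.card T₂ : ℂ) = 2 * 𝕜 ^ 2 - 2 * 𝕜 + 1
  cov : ∀ g, Fpf m g → g ∈ tiCover ⊤ T₁ ∨ g ∈ tiCover ⊤ T₂
  disj : ∀ g ∈ tiCover ⊤ T₁, g ∉ tiCover ⊤ T₂
  hω : ω ^ 2 = -1
  irrS : IsIrrCharacter 𝔾 S
  valS : Val S ((2 * 𝕜 ^ 2) ^ 2) 0 0 0
  S0 : ∀ g, g ^ 4 ≠ 1 → ¬ Fpf m g → S g = 1
  S1 : ∀ g, Fpf m g → S g = -1
  irrW : IsIrrCharacter 𝔾 W
  valW : Val W (𝕜 * (2 * 𝕜 ^ 2 - 1)) (-𝕜) (𝕜 * ω) (-(𝕜 * ω))
  W0 : ∀ g, g ^ 4 ≠ 1 → ¬ Fpf m g → W g = 0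
  W1 : ∀ g ∈ tiCover ⊤ T₁, W g = 1
  W2 : ∀ g ∈ tiCover ⊤ T₂, W g = -1
  ex0 : ∃ χ, RT (H F m) 2 ((2 * 𝕜 ^ 2) ^ 2 + 1) 1 1 χ
  ex1 : ∃ χ, RT T₁ 4 ((2 * 𝕜 ^ 2 - 2 * 𝕜 + 1) * (2 * 𝕜 ^ 2 - 1)) (2 * 𝕜 - 1) (-1) χ
  ex2 : ∃ χ, RT T₂ 4 ((2 * 𝕜 ^ 2 + 2 * 𝕜 + 1) * (2 * 𝕜 ^ 2 - 1)) (-(2 * 𝕜 + 1)) (-1) χ
  cases : ∀ χ, IsIrrCharacter 𝔾 χ → χ = (fun _ => 1) ∨ χ = S ∨ χ = W ∨ χ = (fun g => conj (W g)) ∨
    RT (H F m) 2 ((2 * 𝕜 ^ 2) ^ 2 + 1) 1 1 χ ∨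
    RT T₁ 4 ((2 * 𝕜 ^ 2 - 2 * 𝕜 + 1) * (2 * 𝕜 ^ 2 - 1)) (2 * 𝕜 - 1) (-1) χ ∨
    RT T₂ 4 ((2 * 𝕜 ^ 2 + 2 * 𝕜 + 1) * (2 * 𝕜 ^ 2 - 1)) (-(2 * 𝕜 + 1)) (-1) χ

theorem index_eq_of_card {T : Subgroup 𝔾} {n i : ℂ} (h : (Nat.card T : ℂ) = n)
    (h' : i * n = (2 * 𝕜 ^ 2) ^ 2 * ((2 * 𝕜 ^ 2) ^ 2 + 1) * (2 * 𝕜 ^ 2 - 1)) : (T.index : ℂ) = i :=
  mul_right_cancel₀ (Cfsg.Lib.Char.card_ne_zero T) (by rw [← Nat.cast_mul, index_mul_card, cast_card, h, h'])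

theorem ext_class {φ ψ : 𝔾 → ℂ} (h : IsClassFunction 𝔾 φ) (h' : IsClassFunction 𝔾 ψ) (h1 : φ 1 = ψ 1) (h2 : φ 𝔷 = ψ 𝔷)
    (h3 : φ 𝔶 = ψ 𝔶) (h4 : φ 𝔶⁻¹ = ψ 𝔶⁻¹) (h5 : ∀ g, g ^ 4 ≠ 1 → φ g = ψ g) : φ = ψ := funext fun g => by
  by_cases hg : g ^ 4 = 1
  · rcases two_cases hg with rfl | e | e | e
    exacts [h1, by rw [← h.eq_of_isConj e, ← h'.eq_of_isConj e, h2], by rw [← h.eq_of_isConj e, ← h'.eq_of_isConj e, h3],
      by rw [← h.eq_of_isConj e, ← h'.eq_of_isConj e, h4]]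
  · exact h5 g hg

theorem ind_one_cover {T : Subgroup 𝔾} (h : IsOddPart m T) {e : ℕ} (he : Nat.card (normalizer (T : Set 𝔾)) = e * Nat.card T)
    {g : 𝔾} (hg : g ∈ tiCover ⊤ T) : indFun T (fun _ => 1) g = e := by
  obtain ⟨h5, x, -, hx⟩ := hg
  rw [← (isClassFunction_indFun _).conj_eq' g x]
  exact (h.ati he).ind_one hx (conj_ne_one h5 x)

set_option maxHeartbeats 800000 in
variable (F m) in
theorem exists_tab : ∃ (T₁ T₂ : Subgroup 𝔾) (S W : 𝔾 → ℂ) (ω : ℂ), Tab T₁ T₂ S W ω := by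
  obtain ⟨T₁, T₂, t1, t2, c1, c2, n1, n2, cov⟩ := exists_tori F m
  have hr := (r_lt_q (F := F) m).le
  have disj : ∀ g ∈ tiCover ⊤ T₁, g ∉ tiCover ⊤ T₂ := fun g h1 h2 => by
    obtain ⟨x, hx⟩ := t1.cover_eq_of_mem t2 h1 h2
    rw [hx, card_map_conj, c1] at c2
    have : 0 < 2 ^ (m + 1) := by positivity
    omega
  have c1' : (Nat.card T₁ : ℂ) = 2 * 𝕜 ^ 2 + 2 * 𝕜 + 1 := by rw [c1]; push_cast; ring
  have c2' : (Nat.card T₂ : ℂ) = 2 * 𝕜 ^ 2 - 2 * 𝕜 + 1 := by rw [c2]; push_cast [hr]; ring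
  have c0 : (Nat.card (H F m) : ℂ) = 2 * 𝕜 ^ 2 - 1 := by rw [card_H, cast_q_sub]
  have i0 := index_eq_of_card c0 (i := (2 * 𝕜 ^ 2) ^ 2 * ((2 * 𝕜 ^ 2) ^ 2 + 1)) rfl
  have i1 := index_eq_of_card c1' (i := (2 * 𝕜 ^ 2) ^ 2 * (2 * 𝕜 ^ 2 - 2 * 𝕜 + 1) * (2 * 𝕜 ^ 2 - 1)) (by ring)
  have i2 := index_eq_of_card c2' (i := (2 * 𝕜 ^ 2) ^ 2 * (2 * 𝕜 ^ 2 + 2 * 𝕜 + 1) * (2 * 𝕜 ^ 2 - 1)) (by ring)
  have n0 : Nat.card (normalizer (H F m : Set 𝔾)) = 2 * Nat.card (H F m) := by rw [card_normalizer_H, card_H]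
  obtain ⟨A, hA, hA'⟩ := exists_A F m
  obtain ⟨M, ω, hω, hM, hM'⟩ := exists_M F m
  obtain ⟨S, hS, hS1, hS2, hS3⟩ := exists_St F m
  obtain ⟨J₁, j1, j1', j1''⟩ := t1.exists_J
  obtain ⟨J₂, j2, j2', j2''⟩ := t2.exists_J
  have hω' := conj_omega hω
  have hΓ : ∀ c : ℤ, Val (A + (c : ℂ) • (M + fun g => conj (M g)))
      (((2 * 𝕜 ^ 2) ^ 2 + 1) * (2 * 𝕜 ^ 2 - 1) * (1 + 2 * c * 𝕜)) (2 * 𝕜 ^ 2 - 1 - 2 * c * 𝕜) (-1) (-1) := fun c =>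
    ⟨hA.gen.add ((hM.gen.add hM.gen.conj).intCast_smul c), by simp [hA.one, hM.one, Complex.conj_ofNat]; ring,
      by simp [hA.z, hM.z, Complex.conj_ofNat]; ring, by simp [hA.y, hM.y, hω', Complex.conj_ofNat],
      by simp [hA.y', hM.y', hω', Complex.conj_ofNat]⟩
  have hΓ' : ∀ c : ℤ, ∀ g, g ^ 4 ≠ 1 → (A + (c : ℂ) • (M + fun g => conj (M g))) g = 0 := fun c g hg => by
    simp [hA' g hg, hM' g hg]
  obtain ⟨Γ, hΓ, hΓ'⟩ : ∃ Γ : ℤ → 𝔾 → ℂ, (∀ c : ℤ, Val (Γ c) (((2 * 𝕜 ^ 2) ^ 2 + 1) * (2 * 𝕜 ^ 2 - 1) * (1 + 2 * c * 𝕜))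
    (2 * 𝕜 ^ 2 - 1 - 2 * c * 𝕜) (-1) (-1)) ∧ ∀ c g, g ^ 4 ≠ 1 → Γ c g = 0 := ⟨_, hΓ, hΓ'⟩
  obtain ⟨r0, r0'⟩ := isOddPart_H.rt n0 (hΓ (2 ^ m)) (hΓ' _) (by simp [Complex.conj_ofNat]) (by simp [Complex.conj_ofNat])
    (Or.inl rfl) (d := (2 * (2 ^ m) ^ 2) ^ 2 + 1) (by rw [i0]; push_cast; ring) (by rw [i0]; push_cast; ring)
  obtain ⟨r1, r1'⟩ := t1.isOddPart.rt n1 (hΓ (2 ^ m - 1)) (hΓ' _) (by simp [Complex.conj_ofNat])
    (by simp [Complex.conj_ofNat]) (Or.inr rfl) (d := Nat.card T₂ * Nat.card (H F m))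
    (by rw [i1, Nat.cast_mul, c0, c2']; push_cast; ring) (by rw [i1, Nat.cast_mul, c0, c2']; push_cast; ring)
  obtain ⟨r2, r2'⟩ := t2.isOddPart.rt n2 (hΓ (2 ^ m + 1)) (hΓ' _) (by simp [Complex.conj_ofNat])
    (by simp [Complex.conj_ofNat]) (Or.inr rfl) (d := Nat.card T₁ * Nat.card (H F m))
    (by rw [i2, Nat.cast_mul, c0, c1']; push_cast; ring) (by rw [i2, Nat.cast_mul, c0, c1']; push_cast; ring)
  have hW : Val (M + J₁ - J₂) (𝕜 * (2 * 𝕜 ^ 2 - 1)) (-𝕜) (𝕜 * ω) (-(𝕜 * ω)) :=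
    ⟨(hM.gen.add j1.gen).sub j2.gen, by simp only [Pi.add_apply, Pi.sub_apply, hM.one, j1.one, j2.one, i1, i2]; ring,
      by simp [hM.z, j1.z, j2.z], by simp [hM.y, j1.y, j2.y], by simp [hM.y', j1.y', j2.y']⟩
  have W0 : ∀ g, g ^ 4 ≠ 1 → ¬ Fpf m g → (M + J₁ - J₂) g = 0 := fun g h h' => by
    simp [hM' g h, j1'' g h fun e => h' (t1.cover_subset e), j2'' g h fun e => h' (t2.cover_subset e)]
  have W1 : ∀ g ∈ tiCover ⊤ T₁, (M + J₁ - J₂) g = 1 := fun g h => by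
    have := t1.isOddPart.four_of_cover h
    simp [hM' g this, j1' g h, j2'' g this (disj g h)]
  have W2 : ∀ g ∈ tiCover ⊤ T₂, (M + J₁ - J₂) g = -1 := fun g h => by
    have := t2.isOddPart.four_of_cover h
    simp [hM' g this, j2' g h, j1'' g this fun e => disj g e h]
  generalize M + J₁ - J₂ = W at hW W0 W1 W2
  have irrW : IsIrrCharacter 𝔾 W := hW.gen.isIrrCharacter_of_norm_one (mul_left_cancel₀ (card_ne F m) (by
    rw [hW.inner hW (cH := 0) (cF := 1) (fun g h h' => by simp [W0 g h h']) fun g h => by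
      rcases cov g h with e | e <;> simp [W1 g, W2 g, e]]
    simp only [map_pow, map_mul, map_sub, map_one, map_neg, Complex.conj_ofNat, hω']
    linear_combination -2 * 𝕜 ^ 4 * (((2 * 𝕜 ^ 2) ^ 2 + 1) * (2 * 𝕜 ^ 2 - 1)) * hω)) (by
    rw [hW.one, ← c0, show 𝕜 = ((2 ^ m : ℕ) : ℂ) by simp, ← Nat.cast_mul, Complex.natCast_re]
    positivity)
  have e0 : (((2 * (2 ^ m) ^ 2) ^ 2 + 1 : ℕ) : ℂ) = (2 * 𝕜 ^ 2) ^ 2 + 1 := by push_cast; rfl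
  have e1 : -((1 : ℤ) : ℂ) * (2 * 𝕜 ^ 2 - 1 - 2 * ((2 ^ m : ℤ) : ℂ) * 𝕜) = 1 := by push_cast; ring
  have e2 : -((-1 : ℤ) : ℂ) * (2 * 𝕜 ^ 2 - 1 - 2 * ((2 ^ m - 1 : ℤ) : ℂ) * 𝕜) = 2 * 𝕜 - 1 := by push_cast; ring
  have e3 : -((-1 : ℤ) : ℂ) * (2 * 𝕜 ^ 2 - 1 - 2 * ((2 ^ m + 1 : ℤ) : ℂ) * 𝕜) = -(2 * 𝕜 + 1) := by push_cast; ring
  rw [e0, e1, Int.cast_one] at r0 r0'
  rw [e2, Nat.cast_mul, c0, c2', Int.cast_neg, Int.cast_one] at r1 r1'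
  rw [e3, Nat.cast_mul, c0, c1', Int.cast_neg, Int.cast_one] at r2 r2'
  refine ⟨T₁, T₂, S, W, ω, t1, t2, c1', c2', cov, disj, hω, hS, hS1, hS2, hS3, irrW, hW, W0, W1, W2, r0, r1, r2,
    fun χ hχ => ?_⟩
  by_contra hn
  simp only [not_or] at hn
  obtain ⟨a1, a2, a3, a4, a5, a6, a7⟩ := hn
  have v0 := (isOddPart_H (F := F) (m := m)).val_ind 1
  have v1 := t1.isOddPart.val_ind 1
  have v2 := t2.isOddPart.val_ind 1
  simp only [Ch.one_apply] at v0 v1 v2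
  have hreg := (isCharacter_regChar (G := 𝔾)).isClassFunction
  have e : regChar 𝔾 = (fun _ => 1) + (2 * 𝕜 ^ 2) ^ 2 • S + (𝕜 * (2 * 𝕜 ^ 2 - 1)) • (W + fun g => conj (W g)) +
      (((2 * 𝕜 ^ 2) ^ 2 + 1) / 2) • (regChar 𝔾 - indFun (H F m) (fun _ => 1) - ((Nat.card (H F m) : ℂ) - 1) •
        Γ (2 ^ m)) -
      ((2 * 𝕜 ^ 2 - 2 * 𝕜 + 1) * (2 * 𝕜 ^ 2 - 1) / 4) • (regChar 𝔾 - indFun T₁ (fun _ => 1) - ((Nat.card T₁ : ℂ) - 1) •
        Γ (2 ^ m - 1)) -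
      ((2 * 𝕜 ^ 2 + 2 * 𝕜 + 1) * (2 * 𝕜 ^ 2 - 1) / 4) • (regChar 𝔾 - indFun T₂ (fun _ => 1) - ((Nat.card T₂ : ℂ) - 1) •
        Γ (2 ^ m + 1)) := by
    have hΓ0 := fun c => (hΓ c).gen.isClassFunction
    refine ext_class hreg ((((((isClassFunction_const _).add (hS.isClassFunction.smul _)).add
      ((irrW.isClassFunction.add irrW.isClassFunction.conj).smul _)).add (((hreg.sub v0.gen.isClassFunction).sub
        ((hΓ0 _).smul _)).smul _)).sub (((hreg.sub v1.gen.isClassFunction).sub ((hΓ0 _).smul _)).smul _)).sub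
        (((hreg.sub v2.gen.isClassFunction).sub ((hΓ0 _).smul _)).smul _)) ?_ ?_ ?_ ?_ fun g hg => ?_
    all_goals simp only [Pi.add_apply, Pi.sub_apply, Pi.smul_apply, smul_eq_mul, c0, c1', c2']
    · simp only [regChar_one, cast_card, hS1.one, hW.one, v0.one, v1.one, v2.one, (hΓ _).one, i0, i1, i2, map_mul, map_sub,
        map_pow, map_one, Complex.conj_ofNat]
      push_cast; ring
    · simp only [regChar_of_ne (z_ne (F := F) (m := m)), hS1.z, hW.z, v0.z, v1.z, v2.z, (hΓ _).z, map_neg, map_pow, Complex.conj_ofNat]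
      push_cast; ring
    · simp only [regChar_of_ne (y_ne (F := F) (m := m)), hS1.y, hW.y, v0.y, v1.y, v2.y, (hΓ _).y, map_mul, map_pow, Complex.conj_ofNat, hω']
      ring
    · simp only [regChar_of_ne (y_ne' (F := F) (m := m)), hS1.y', hW.y', v0.y', v1.y', v2.y', (hΓ _).y', map_mul, map_neg, map_pow,
        Complex.conj_ofNat, hω']
      ring
    have g1 := ne_one_of_four hg
    rw [regChar_of_ne g1, hΓ' _ g hg, hΓ' _ g hg, hΓ' _ g hg]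
    by_cases hf : Fpf m g
    · rw [hS3 g hf, ind_off _ g1 fun e => (mem_cover_H_iff hg).1 e hf]
      rcases cov g hf with e | e
      · rw [W1 g e, ind_one_cover t1.isOddPart n1 e, ind_off _ g1 (disj g e), map_one]
        push_cast; ring
      · rw [W2 g e, ind_one_cover t2.isOddPart n2 e, ind_off _ g1 fun e' => disj g e' e, map_neg, map_one]
        push_cast; ring
    · rw [hS2 g hg hf, W0 g hg hf, ind_one_cover isOddPart_H n0 ((mem_cover_H_iff hg).2 hf),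
        ind_off _ g1 fun e => hf (t1.cover_subset e), ind_off _ g1 fun e => hf (t2.cover_subset e), map_zero]
      push_cast; ring
  have := congrArg (classInner · χ) e
  simp only [classInner_add_left, classInner_smul_left, classInner_sub_left (φ := _ + _), classInner_sub_left (φ := _ + _ - _),
    r0' χ hχ a5, r1' χ hχ a6, r2' χ hχ a7, classInner_regChar_left, isIrrCharacter_one.classInner_of_ne hχ (Ne.symm a1),
    hS.classInner_of_ne hχ (Ne.symm a2), irrW.classInner_of_ne hχ (Ne.symm a3),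
    irrW.conj.classInner_of_ne hχ (Ne.symm a4)] at this
  exact hχ.apply_one_ne_zero (by simpa using this)

end Cfsg.Lib.BN.Sz
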