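/-
Characters of the Suzuki groups, part 4: squares of conjugacy classes.
-/
import Cfsg.Agent.Lib.BN.SzChar3
import Cfsg.Agent.Lib.Clifford.Count

set_option autoImplicit false

namespace Cfsg.Lib.BN

open Cfsg Cfsg.Lib.Char Cfsg.Lib.Known Subgroup
open scoped ComplexConjugate

/-- The number of ways to write `g` as a product of a conjugate of `x` and a conjugate of `y`. -/
theorem card_conj_pairs {G : Type*} [Group G] [Finite G] (x y g : G) :
    (Nat.card {p : G × G // p.1 * x * p.1⁻¹ * (p.2 * y * p.2⁻¹) = g} : ℂ) =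
      Nat.card G * ∑ χ : IrrCharacter G, χ.1 x⁻¹ * χ.1 y⁻¹ * χ.1 g / χ.1 1 := by
  have := Fintype.ofFinite G
  refine mul_left_cancel₀ (Cfsg.Lib.Char.card_ne_zero G) ?_
  rw [Clifford.card_mul_card_fiber (fun p : G × G => p.1 * x * p.1⁻¹ * (p.2 * y * p.2⁻¹)), Finset.mul_sum, Finset.mul_sum]
  refine Finset.sum_congr rfl fun χ _ => ?_
  have h1 : ∀ a b : G, χ.1 ((a * x * a⁻¹ * (b * y * b⁻¹))⁻¹ * g) = χ.1 (b * y⁻¹ * b⁻¹ * (a * x⁻¹ * a⁻¹ * g)) :=
    fun a b => congrArg _ (by group)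
  have := χ.2.apply_one_ne_zero
  simp only [Fintype.sum_prod_type, h1, χ.2.sum_conj_mul, div_eq_mul_inv, ← Finset.sum_mul, ← Finset.mul_sum]
  field_simp

namespace Sz

variable {F : Type*} [Field F] {m : ℕ} [hF : SzField F m]

local notation "𝔾" => Cfsg.Sz F m
local notation "𝔷" => U (F := F) m 0 1
local notation "𝔶" => U (F := F) m 1 0
local notation "𝕜" => ((2 : ℂ) ^ m)

theorem isConj_inv_of_odd {x : 𝔾} (h : x ^ 4 ≠ 1) : IsConj x x⁻¹ := by
  have hT := isOddPart_centralizer h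
  obtain ⟨s, h1, h2, h3⟩ := hT.exists_involution
  exact isConj_iff.2 ⟨s, by rw [inv_eq_of_mul_eq_one_right h3, hT.conj_eq_inv h1 h2 h3 (mem_centralizer_singleton_iff.2 rfl)]⟩

theorem IsOddPart.card_cent {T : Subgroup 𝔾} (h : IsOddPart m T) {x : 𝔾} (hx : x ∈ tiCover ⊤ T) :
    Nat.card (centralizer {x}) = Nat.card T := by
  obtain ⟨h1, y, -, hy⟩ := hx
  rw [Char.card_centralizer_eq_of_isConj (isConj_iff.2 ⟨y⁻¹, by rw [inv_inv]⟩ : IsConj x (y⁻¹ * x * y)),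
    h.centralizer_eq hy (conj_ne_one h1 y)]

theorem Val.four {φ : 𝔾 → ℂ} {a b c : ℂ} (h : Val φ a b c c) {x : 𝔾} (h4 : x ^ 4 = 1) (h2 : x * x ≠ 1) : φ x = c := by
  by_cases e : IsConj 𝔶 x
  · rw [← h.gen.isClassFunction.eq_of_isConj e, h.y]
  · rw [← h.gen.isClassFunction.eq_of_isConj (isConj_y' h4 h2 e), h.y']

theorem Val.two {φ : 𝔾 → ℂ} {a b c d : ℂ} (h : Val φ a b c d) {x : 𝔾} (h1 : x ≠ 1) (h2 : x * x = 1) : φ x = b := by
  rw [← h.gen.isClassFunction.eq_of_isConj (isConj_of_involution z_ne z_sq h1 h2), h.z]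

theorem RT.re_ge {T : Subgroup 𝔾} {e : ℕ} {d a b : ℝ} {χ : 𝔾 → ℂ} (h : RT T e d a b χ) {g : 𝔾} (h1 : g ≠ 1) {μ : ℝ}
    (hd : 0 < d) (h0 : 0 ≤ μ) (ha : -a ≤ μ * d) (hb : -b ≤ μ * d) (he : g ∈ tiCover ⊤ T → e ≤ μ * d) :
    -μ ≤ (χ g / χ 1).re := by
  rw [h.val.one, Complex.div_ofReal_re, le_div_iff₀ hd, neg_mul, neg_le]
  by_cases h4 : g ^ 4 = 1
  · by_cases h2 : g * g = 1
    · rwa [h.val.two h1 h2]
    · rwa [h.val.four h4 h2]
  by_cases h5 : g ∈ tiCover ⊤ T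
  · exact (neg_le_abs _).trans ((Complex.abs_re_le_norm _).trans ((h.bd g h4).trans (he h5)))
  · rw [h.off g h4 h5]; simp; positivity

namespace Tab

variable {T₁ T₂ : Subgroup (Cfsg.Sz F m)} {S W : Cfsg.Sz F m → ℂ} {ω : ℂ} (h : Tab T₁ T₂ S W ω)
include h

theorem W_four {x : 𝔾} (h4 : x ^ 4 = 1) (h2 : x * x ≠ 1) : W x = 𝕜 * ω ∨ W x = -(𝕜 * ω) := by
  by_cases e : IsConj 𝔶 x
  · exact Or.inl (by rw [← h.valW.gen.isClassFunction.eq_of_isConj e, h.valW.y])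
  · exact Or.inr (by rw [← h.valW.gen.isClassFunction.eq_of_isConj (isConj_y' h4 h2 e), h.valW.y'])

theorem W_four_sq {x : 𝔾} (h4 : x ^ 4 = 1) (h2 : x * x ≠ 1) : W x ^ 2 = -𝕜 ^ 2 ∧ conj (W x) = -W x := by
  rcases h.W_four h4 h2 with e | e <;> rw [e] <;> simp [mul_pow, h.hω, conj_omega h.hω, Complex.conj_ofNat]

theorem exists_split : ∃ R : Finset (IrrCharacter 𝔾), (∀ χ ∈ R, RT (H F m) 2 ((2 * 𝕜 ^ 2) ^ 2 + 1) 1 1 χ.1 ∨
    RT T₁ 4 ((2 * 𝕜 ^ 2 - 2 * 𝕜 + 1) * (2 * 𝕜 ^ 2 - 1)) (2 * 𝕜 - 1) (-1) χ.1 ∨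
    RT T₂ 4 ((2 * 𝕜 ^ 2 + 2 * 𝕜 + 1) * (2 * 𝕜 ^ 2 - 1)) (-(2 * 𝕜 + 1)) (-1) χ.1) ∧ ∀ f : (𝔾 → ℂ) → ℂ,
    ∑ χ : IrrCharacter 𝔾, f χ.1 = f (fun _ => 1) + f S + f W + f (fun g => conj (W g)) + ∑ χ ∈ R, f χ.1 := by
  classical
  refine ⟨{⟨_, isIrrCharacter_one⟩, ⟨S, h.irrS⟩, ⟨W, h.irrW⟩, ⟨_, h.irrW.conj⟩}ᶜ, fun χ hχ => ?_, fun f => ?_⟩
  · simp only [Finset.mem_compl, Finset.mem_insert, Finset.mem_singleton, Subtype.ext_iff, not_or] at hχ
    have := h.cases χ.1 χ.2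
    tauto
  have e1 := h.valS.y
  obtain ⟨e2, e3⟩ := h.W_four_sq y_four y_sq_ne
  have e4 : W 𝔶 ≠ 0 := fun e => by simp [e] at e2
  have e5 : W 𝔶 ^ 2 ≠ 1 := fun e => by
    rw [e, show -𝕜 ^ 2 = ((-(2 ^ m) ^ 2 : ℤ) : ℂ) by simp, ← Int.cast_one, Int.cast_inj] at e2
    nlinarith [sq_nonneg ((2 : ℤ) ^ m)]
  have key : ∀ {φ ψ : 𝔾 → ℂ} {a b}, φ 𝔶 ≠ ψ 𝔶 → (⟨φ, a⟩ : IrrCharacter 𝔾) ≠ ⟨ψ, b⟩ := fun e e' =>
    e (congrFun (congrArg Subtype.val e') _)
  rw [← Finset.sum_add_sum_compl {⟨_, isIrrCharacter_one⟩, ⟨S, h.irrS⟩, ⟨W, h.irrW⟩, ⟨_, h.irrW.conj⟩},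
    Finset.sum_insert, Finset.sum_insert, Finset.sum_pair, add_assoc, add_assoc, add_assoc, add_assoc, add_assoc, add_assoc]
  · exact key (by rw [e3]; grind)
  · simp only [Finset.mem_insert, Finset.mem_singleton, not_or]
    exact ⟨key (by rw [e1]; exact e4.symm), key (by rw [e1, e3]; grind)⟩
  · simp only [Finset.mem_insert, Finset.mem_singleton, not_or]
    exact ⟨key (by simp [e1]), key (by grind), key (by rw [e3]; grind)⟩

theorem g_cases {g : 𝔾} (h1 : g ≠ 1) : ∃ s w : ℝ, S g = s ∧ (W g).re = w ∧ -1 ≤ s ∧ -2 ^ m ≤ w ∧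
    (g ∉ tiCover ⊤ T₁ → w ≤ 0) ∧ (g ∈ tiCover ⊤ T₁ → W g = 1) := by
  have hk : (1 : ℝ) ≤ 2 ^ m := one_le_pow₀ one_le_two
  by_cases h4 : g ^ 4 = 1
  · have h5 := fun e => (h.t1.isOddPart.four_of_cover e h4).elim (C := W g = 1)
    by_cases h2 : g * g = 1
    · exact ⟨0, -2 ^ m, by simp [h.valS.two h1 h2], by rw [h.valW.two h1 h2]; norm_cast, by simp, le_rfl, by simp, h5⟩
    · refine ⟨0, 0, by simp [h.valS.four h4 h2], ?_, by simp, by simp, by simp, h5⟩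
      have := congrArg Complex.re (h.W_four_sq h4 h2).2
      simp only [Complex.conj_re, Complex.neg_re] at this
      linarith
  by_cases hf : Fpf m g
  · rcases h.cov g hf with e | e
    · exact ⟨-1, 1, by simp [h.S1 g hf], by simp [h.W1 g e], le_rfl, by linarith, fun e' => absurd e e', h.W1 g⟩
    · exact ⟨-1, -1, by simp [h.S1 g hf], by simp [h.W2 g e], le_rfl, by linarith, by simp, h.W1 g⟩
  · exact ⟨1, 0, by simp [h.S0 g h4 hf], by simp [h.W0 g h4 hf], by simp, by simp, by simp, h.W1 g⟩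

theorem re_sum_ge {x g : 𝔾} (h2 : x * x ≠ 1) (h1 : g ≠ 1) :
    3 / 32 ≤ (∑ χ : IrrCharacter 𝔾, χ.1 x⁻¹ * χ.1 x⁻¹ * χ.1 g / χ.1 1).re := by
  obtain ⟨R, hR, hs⟩ := h.exists_split
  obtain ⟨s, w, g1, g2, g3, g4, g5, g6⟩ := h.g_cases h1
  have hk : (2 : ℝ) ≤ 2 ^ m := le_self_pow₀ one_le_two (Nat.one_le_iff_ne_zero.1 hF.one_le)
  have hk' : 𝕜 = ((2 ^ m : ℝ) : ℂ) := by simp
  have vS := h.valS.one
  have vW := h.valW.one
  have c1 := h.c1
  have c2 := h.c2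
  have c0 : (Nat.card (H F m) : ℂ) = 2 * 𝕜 ^ 2 - 1 := by rw [card_H, cast_q_sub]
  have c4 : x ^ 4 = 1 → (Nat.card (centralizer {x}) : ℂ) = 4 * 𝕜 ^ 2 := fun h4 => by
    by_cases e : IsConj 𝔶 x
    · rw [← Char.card_centralizer_eq_of_isConj e, cast_cent_y]
    · rw [← Char.card_centralizer_eq_of_isConj (isConj_y' h4 h2 e), cast_cent_y']
  have w4 := fun h4 => h.W_four_sq h4 h2
  rw [hk'] at hR vS vW c0 c1 c2 c4 w4
  generalize (2 : ℝ) ^ m = k at *
  norm_cast at hR vS vW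
  have hx : ∀ χ ∈ R, χ.1 x⁻¹ = χ.1 x := fun χ hχ => by
    by_cases h4 : x ^ 4 = 1
    · have h5 : x⁻¹ ^ 4 = 1 := by rw [inv_pow, h4, inv_one]
      have h6 : x⁻¹ * x⁻¹ ≠ 1 := by rwa [← _root_.mul_inv_rev, Ne, inv_eq_one]
      rcases hR χ hχ with e | e | e <;> rw [e.val.four h4 h2, e.val.four h5 h6]
    · exact (χ.2.isClassFunction.eq_of_isConj (isConj_inv_of_odd h4)).symm
  have p0 : 0 < 2 * k ^ 2 - 1 := by nlinarith
  have p1 : 0 < 2 * k ^ 2 - 2 * k + 1 := by nlinarith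
  have p2 : 0 < 2 * k ^ 2 + 2 * k + 1 := by positivity
  have p3 : 0 < k := by positivity
  have hU : ∀ σ ρ : ℝ, S x⁻¹ * S x⁻¹ = σ → W x⁻¹ * W x⁻¹ = ρ →
      (∑ χ : IrrCharacter 𝔾, χ.1 x⁻¹ * χ.1 x⁻¹ * χ.1 g / χ.1 1).re = 1 + σ * s / (2 * k ^ 2) ^ 2 +
        2 * ρ * w / (k * (2 * k ^ 2 - 1)) + (∑ χ ∈ R, χ.1 x⁻¹ * χ.1 x⁻¹ * χ.1 g / χ.1 1).re := fun σ ρ e1 e2 => by
    rw [hs fun χ => χ x⁻¹ * χ x⁻¹ * χ g / χ 1]
    simp only [← map_mul, e1, e2, g1, vS, vW, Complex.conj_ofReal, Complex.add_re, Complex.div_ofReal_re, Complex.conj_re,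
      Complex.re_ofReal_mul, g2, Complex.ofReal_re, mul_one, div_one, Complex.one_re]
    ring
  have hrest : ∀ μ n : ℝ, (∀ χ ∈ R, χ.1 x ≠ 0 → -μ ≤ (χ.1 g / χ.1 1).re) →
      (Nat.card (centralizer {x}) : ℂ) = 1 + S x * conj (S x) + 2 * (W x * conj (W x)) + n →
      -(μ * n) ≤ (∑ χ ∈ R, χ.1 x⁻¹ * χ.1 x⁻¹ * χ.1 g / χ.1 1).re := fun μ n e1 e2 => by
    have e3 := column_orthogonality_of_isConj (IsConj.refl x)
    rw [hs fun χ => χ x * conj (χ x), e2] at e3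
    have e4 : ∑ χ ∈ R, χ.1 x * conj (χ.1 x) = n := by
      simp only [map_one, Complex.conj_conj] at e3
      linear_combination e3
    have e5 : ∑ χ ∈ R, Complex.normSq (χ.1 x) = n := by
      simp only [Complex.mul_conj] at e4
      exact_mod_cast e4
    rw [← e5, Complex.re_sum, Finset.mul_sum, ← Finset.sum_neg_distrib]
    refine Finset.sum_le_sum fun χ hχ => ?_
    nth_rw 1 [hx χ hχ]
    rw [χ.2.isCharacter.apply_inv, Complex.mul_conj, mul_div_assoc, Complex.re_ofReal_mul]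
    by_cases e6 : χ.1 x = 0
    · simp [e6]
    · nlinarith [e1 χ hχ e6, Complex.normSq_nonneg (χ.1 x)]
  have q1 : -1 / 64 ≤ s / (2 * k ^ 2) ^ 2 := by
    rw [div_le_div_iff₀ (by norm_num) (by positivity)]; nlinarith [pow_le_pow_left₀ zero_le_two hk 4]
  have q2 : -2 / 7 ≤ 2 * w / (k * (2 * k ^ 2 - 1)) := by
    rw [div_le_div_iff₀ (by norm_num) (by positivity)]; nlinarith [pow_le_pow_left₀ zero_le_two hk 2]
  by_cases h4 : x ^ 4 = 1
  · have h5 : x⁻¹ ^ 4 = 1 := by rw [inv_pow, h4, inv_one]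
    have h6 : x⁻¹ * x⁻¹ ≠ 1 := by rwa [← _root_.mul_inv_rev, Ne, inv_eq_one]
    obtain ⟨w1, w2⟩ := w4 h4
    rw [hU 0 (-k ^ 2) (by simp [h.valS.four h5 h6]) (by
      rw [h.irrW.isCharacter.apply_inv, w2, neg_mul_neg, ← pow_two, w1]; simp)]
    by_cases hg : g ∈ tiCover ⊤ T₁
    · have hg4 := h.t1.isOddPart.four_of_cover hg
      have e3 := column_orthogonality_of_not_isConj (g := g) (h := x) fun e => hg4 ((isConj_pow_iff e 4).2 h4)
      rw [hs fun χ => χ g * conj (χ x)] at e3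
      simp only [g6 hg, map_one, map_neg, w2, h.valS.four h4 h2, map_zero] at e3
      have e4 : ∑ χ ∈ R, χ.1 x⁻¹ * χ.1 x⁻¹ * χ.1 g / χ.1 1 =
          -(∑ χ ∈ R, χ.1 g * conj (χ.1 x)) / ((2 * k ^ 2 - 2 * k + 1) * (2 * k ^ 2 - 1) : ℝ) := by
        rw [← Finset.sum_neg_distrib, Finset.sum_div]
        refine Finset.sum_congr rfl fun χ hχ => ?_
        rcases hR χ hχ with e | e | e
        · simp [e.off g hg4 fun e' => (mem_cover_H_iff hg4).1 e' (h.t1.cover_subset hg)]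
        · rw [e.val.four h5 h6, e.val.four h4 h2, e.val.one]; simp
        · simp [e.off g hg4 (h.disj g hg)]
      rw [e4, show -(∑ χ ∈ R, χ.1 g * conj (χ.1 x)) = 1 by linear_combination -e3, Complex.div_ofReal_re, ← g2, g6 hg]
      have : -4 / 7 ≤ 2 * -k ^ 2 * 1 / (k * (2 * k ^ 2 - 1)) := by
        rw [div_le_div_iff₀ (by norm_num) (by positivity)]; nlinarith [mul_nonneg p3.le (sub_nonneg.2 hk)]
      have : 0 ≤ 1 / ((2 * k ^ 2 - 2 * k + 1) * (2 * k ^ 2 - 1)) := by positivity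
      simp only [Complex.one_re, zero_mul, zero_div]
      linarith
    · have e1 := hrest (1 / (2 * (2 * k ^ 2 - 1))) (2 * k ^ 2 - 1) (fun χ hχ _ => by
        rcases hR χ hχ with e | e | e
        · have : 2 ≤ 1 / (2 * (2 * k ^ 2 - 1)) * ((2 * k ^ 2) ^ 2 + 1) := by
            rw [one_div, le_inv_mul_iff₀ (by positivity)]; nlinarith [sq_nonneg (k ^ 2 - 1)]
          exact RT.re_ge (a := 1) (b := 1) e h1 (by positivity) (by positivity) (by linarith) (by linarith) fun _ => this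
        · have : 1 ≤ 1 / (2 * (2 * k ^ 2 - 1)) * ((2 * k ^ 2 - 2 * k + 1) * (2 * k ^ 2 - 1)) := by
            rw [one_div, le_inv_mul_iff₀ (by positivity)]; nlinarith
          exact RT.re_ge (b := -1) (by exact_mod_cast e) h1 (by positivity) (by positivity) (by linarith) (by linarith)
            fun e => absurd e hg
        · have : 2 * k + 1 ≤ 1 / (2 * (2 * k ^ 2 - 1)) * ((2 * k ^ 2 + 2 * k + 1) * (2 * k ^ 2 - 1)) := by
            rw [one_div, le_inv_mul_iff₀ (by positivity)]; nlinarith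
          exact RT.re_ge (b := -1) (by exact_mod_cast e) h1 (by positivity) (by positivity) (by linarith) (by linarith)
            fun _ => by push_cast; linarith) (by
        rw [c4 h4, h.valS.four h4 h2, w2]; push_cast; linear_combination 2 * w1)
      have e2 : 0 ≤ 2 * -k ^ 2 * w / (k * (2 * k ^ 2 - 1)) := div_nonneg (by nlinarith [g5 hg]) (by positivity)
      rw [show 1 / (2 * (2 * k ^ 2 - 1)) * (2 * k ^ 2 - 1) = 1 / 2 by field_simp] at e1
      rw [zero_mul, zero_div]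
      linarith
  have hi := isConj_inv_of_odd h4
  rw [← h.irrS.isClassFunction.eq_of_isConj hi, ← h.irrW.isClassFunction.eq_of_isConj hi] at hU
  by_cases hf : Fpf m x
  · have h0 : x ∉ tiCover ⊤ (H F m) := fun e => (mem_cover_H_iff h4).1 e hf
    rcases h.cov x hf with hx1 | hx1
    · rw [hU 1 1 (by simp [h.S1 x hf]) (by simp [h.W1 x hx1])]
      have e0 : (Nat.card (centralizer {x}) : ℂ) = 1 + S x * conj (S x) + 2 * (W x * conj (W x)) +
          (2 * k ^ 2 + 2 * k - 3 : ℝ) := by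
        rw [h.t1.isOddPart.card_cent hx1, c1, h.S1 x hf, h.W1 x hx1]; simp; ring
      have e1 : ∀ c : ℝ, 1 ≤ c → (g ∈ tiCover ⊤ T₁ → 4 ≤ c) → _ := fun c hc hc' =>
        hrest (c / ((2 * k ^ 2 - 2 * k + 1) * (2 * k ^ 2 - 1))) _ (fun χ hχ hχ' => by
          rcases hR χ hχ with e | e | e
          · exact absurd (e.off x h4 h0) hχ'
          · have : c / ((2 * k ^ 2 - 2 * k + 1) * (2 * k ^ 2 - 1)) * ((2 * k ^ 2 - 2 * k + 1) * (2 * k ^ 2 - 1)) = c :=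
              div_mul_cancel₀ _ (by positivity)
            exact RT.re_ge (b := -1) (by exact_mod_cast e) h1 (by positivity) (by positivity) (by linarith) (by linarith)
              fun e => by push_cast; linarith [hc' e]
          · exact absurd (e.off x h4 (h.disj x hx1)) hχ') e0
      by_cases hg : g ∈ tiCover ⊤ T₁
      · have e2 := e1 4 (by norm_num) fun _ => le_rfl
        have e3 : 4 / ((2 * k ^ 2 - 2 * k + 1) * (2 * k ^ 2 - 1)) * (2 * k ^ 2 + 2 * k - 3) ≤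
            2 * 1 * w / (k * (2 * k ^ 2 - 1)) + 57 / 64 := by
          rw [← g2, g6 hg, Complex.one_re, div_add_div _ _ (by positivity) (by positivity), div_mul_eq_mul_div,
            div_le_div_iff₀ (by positivity) (by positivity), show ∀ a b c d e : ℝ, (a + b * c * d) * (e * c) =
              (a + b * c * d) * e * c from fun _ _ _ _ _ => by ring,
            show ∀ a b c d : ℝ, a * (b * c * d) = a * b * d * c from fun _ _ _ _ => by ring]
          refine mul_le_mul_of_nonneg_right ?_ p0.le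
          obtain ⟨t, rfl⟩ : ∃ t, k = 2 + t := ⟨k - 2, by ring⟩
          have : 0 ≤ t := by linarith
          rw [← sub_nonneg]; ring_nf; positivity
        rw [one_mul]
        linarith
      · have e2 := e1 1 le_rfl fun e => absurd e hg
        have e3 : 1 / ((2 * k ^ 2 - 2 * k + 1) * (2 * k ^ 2 - 1)) * (2 * k ^ 2 + 2 * k - 3) ≤ 1 / 2 := by
          rw [div_mul_eq_mul_div, div_le_iff₀ (by positivity)]
          obtain ⟨t, rfl⟩ : ∃ t, k = 2 + t := ⟨k - 2, by ring⟩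
          have : 0 ≤ t := by linarith
          rw [← sub_nonneg]; ring_nf; positivity
        rw [one_mul, mul_one]
        linarith
    · rw [hU 1 1 (by simp [h.S1 x hf]) (by simp [h.W2 x hx1])]
      have e1 := hrest ((2 * k + 1) / ((2 * k ^ 2 + 2 * k + 1) * (2 * k ^ 2 - 1))) (2 * k ^ 2 - 2 * k - 3) (fun χ hχ hχ' => by
          rcases hR χ hχ with e | e | e
          · exact absurd (e.off x h4 h0) hχ'
          · exact absurd (e.off x h4 fun e' => h.disj x e' hx1) hχ'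
          · have : (2 * k + 1) / ((2 * k ^ 2 + 2 * k + 1) * (2 * k ^ 2 - 1)) *
                ((2 * k ^ 2 + 2 * k + 1) * (2 * k ^ 2 - 1)) = 2 * k + 1 := by field_simp
            exact RT.re_ge (b := -1) (by exact_mod_cast e) h1 (by positivity) (by positivity) (by linarith) (by linarith)
              fun e => by push_cast; linarith) (by
        rw [h.t2.isOddPart.card_cent hx1, c2, h.S1 x hf, h.W2 x hx1]; simp; ring)
      have e3 : (2 * k + 1) / ((2 * k ^ 2 + 2 * k + 1) * (2 * k ^ 2 - 1)) * (2 * k ^ 2 - 2 * k - 3) ≤ 1 / 2 := by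
        field_simp
        obtain ⟨t, rfl⟩ : ∃ t, k = 2 + t := ⟨k - 2, by ring⟩
        have : 0 ≤ t := by linarith
        rw [← sub_nonneg]; ring_nf; positivity
      rw [one_mul, mul_one]
      linarith
  · rw [hU 1 0 (by simp [h.S0 x h4 hf]) (by simp [h.W0 x h4 hf])]
    have e1 := hrest (2 / ((2 * k ^ 2) ^ 2 + 1)) (2 * k ^ 2 - 3) (fun χ hχ hχ' => by
        rcases hR χ hχ with e | e | e
        · have : 2 / ((2 * k ^ 2) ^ 2 + 1) * ((2 * k ^ 2) ^ 2 + 1) = 2 := by field_simp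
          exact RT.re_ge (a := 1) (b := 1) e h1 (by positivity) (by positivity) (by linarith) (by linarith)
            fun e => by push_cast; linarith
        · exact absurd (e.off x h4 fun e' => hf (h.t1.cover_subset e')) hχ'
        · exact absurd (e.off x h4 fun e' => hf (h.t2.cover_subset e')) hχ') (by
      rw [isOddPart_H.card_cent ((mem_cover_H_iff h4).2 hf), c0, h.S0 x h4 hf, h.W0 x h4 hf]; simp; ring)
    have e3 : 2 / ((2 * k ^ 2) ^ 2 + 1) * (2 * k ^ 2 - 3) ≤ 1 / 2 := by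
      field_simp
      nlinarith [sq_nonneg (k ^ 2 - 1)]
    rw [one_mul, mul_zero, zero_mul, zero_div]
    linarith

end Tab

/-- Squares of classes of elements of order greater than two, with a lower bound for the number of factorisations. -/
theorem card_conj_pairs_ge {x g : 𝔾} (h2 : x * x ≠ 1) (h1 : g ≠ 1) :
    3 * Nat.card 𝔾 ≤ 32 * Nat.card {p : 𝔾 × 𝔾 // p.1 * x * p.1⁻¹ * (p.2 * x * p.2⁻¹) = g} := by
  obtain ⟨T₁, T₂, S, W, ω, h⟩ := exists_tab F m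
  have e := congrArg Complex.re (card_conj_pairs x x g)
  rw [Complex.natCast_re, ← Complex.ofReal_natCast, Complex.re_ofReal_mul] at e
  have := h.re_sum_ge h2 h1
  have h0 : (0 : ℝ) ≤ Nat.card 𝔾 := Nat.cast_nonneg _
  exact_mod_cast (show (3 : ℝ) * Nat.card 𝔾 ≤
    32 * Nat.card {p : 𝔾 × 𝔾 // p.1 * x * p.1⁻¹ * (p.2 * x * p.2⁻¹) = g} by rw [e]; nlinarith)

end Sz

end Cfsg.Lib.BN
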