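import Cfsg.Agent.Lib.BN.BinRO
import Cfsg.Agent.Lib.BN.SzChar4

/-! Binary actions of `SL₂(2ⁿ)` and `Sz(q)`. -/

set_option autoImplicit false

namespace Cfsg.Lib.BN

open MulAction Subgroup Cfsg.Lib.Invol Cfsg.Lib.Transfer Cfsg.Lib.BS

section general

variable {G : Type*} [Group G] [Finite G] {B Q : Subgroup G} {t : G}

theorem normalCore_eq_bot_of_simple [IsSimpleGroup G] (h : B ≠ ⊤) : B.normalCore = ⊥ :=
  (IsSimpleGroup.eq_bot_or_eq_top_of_normal B.normalCore inferInstance).resolve_right fun e =>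
    h (top_le_iff.1 (e ▸ normalCore_le B))

theorem rf_of_V [IsSimpleGroup G] (h : RO B Q t) (hV : Vg B t = ⊥)
    (tri : ∀ R : Subgroup G, Q0g Q < R → R ≤ Q → ∃ a ∈ R, a ≠ 1 ∧ ∃ b g₂ g₃ : G, g₂ ∉ B ∧ g₃ ∉ B ∧
      g₂⁻¹ * b * g₂ ∈ R ∧ g₃⁻¹ * (b⁻¹ * a) * g₃ ∈ R)
    (hc : ∀ x ∈ Q, (∀ y ∈ Q, Commute x y) → x ∈ Q0g Q) : RF B Q t := by
  have h2 := r2_of_simple h.se
  have hg := h.good (normalCore_eq_bot_of_simple h.se.1) h2
  have hD : Kg B t = Dg B t := by rw [← h.sup_KV, hV, sup_bot_eq]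
  have hi : ∀ d ∈ Dg B t, t * d * t⁻¹ = d⁻¹ := fun d hd => h.inv_K h2 (hD ▸ hd)
  refine ⟨h, h2, h.gen h2, hg.two, fun x hx => mem_Q0g_of (mul_mem hx hx) (hg.four x hx),
    fun d hd e he => commute_of_inverted hi hd he, fun d hd x hx e => ?_, fun _ => hi, fun e => ?_,
    tri, hc⟩
  · refine or_iff_not_imp_left.2 fun h1 => ?_
    have key : ∀ u ∈ Q, ∀ v ∈ Q, d * u * d⁻¹ * u⁻¹ = d * v * d⁻¹ * v⁻¹ → u = v := fun u hu v hv e =>
      (inv_mul_eq_one.1 (h.K_fpf hd.1 (hi d hd) h1 (mul_mem (inv_mem hv) hu) (by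
        calc d * (v⁻¹ * u) = d * v⁻¹ * d⁻¹ * (d * u * d⁻¹ * u⁻¹) * u * d := by group
          _ = _ := by rw [e]; group))).symm
    let φ : Q0g Q → Q0g Q := fun u => ⟨d * u * d⁻¹ * u⁻¹,
      mul_mem ((mem_normalizer_iff.1 (h.H_norm_Q0 hd.1) u).1 u.2) (inv_mem u.2)⟩
    obtain ⟨u, hu⟩ := Finite.injective_iff_surjective.1 (show Function.Injective φ from
      fun u v e => Subtype.ext (key _ (Q0g_le Q u.2) _ (Q0g_le Q v.2) (congrArg Subtype.val e))) ⟨_, e⟩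
    rw [← key _ (Q0g_le Q u.2) _ hx (congrArg Subtype.val hu)]
    exact u.2
  · rw [← hD, h.card_K_add_one h2]
    refine (card_le_of_le (Q0g_le Q)).lt_of_ne fun e1 => e ?_
    exact (eq_of_le_of_card_ge (Q0g_le Q) e1.ge).ge

theorem tri_of_r (h : RO B Q t) {s r x : G} (hs : SE B Q t s r) (hr : r * r = s) (hx : x ∈ B)
    {R : Subgroup G} (h0 : Q0g Q ≤ R) (h1 : x * r * x⁻¹ ∈ R) :
    ∃ a ∈ R, a ≠ 1 ∧ ∃ b g₂ g₃ : G, g₂ ∉ B ∧ g₃ ∉ B ∧
      g₂⁻¹ * b * g₂ ∈ R ∧ g₃⁻¹ * (b⁻¹ * a) * g₃ ∈ R := by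
  obtain ⟨c, hc⟩ := isConj_iff.1 (se_isConj h.se hs.two h.two_t)
  have ss := mul_self_of_two hs.two
  refine ⟨_, h1, fun e => h.r_ne_one hs (by simpa using e), x * t * x⁻¹, x * c,
    x * (s * t) * x⁻¹, fun e => h.tH ?_, fun e => ?_, ?_, ?_⟩
  · have : c ∈ B := by simpa using mul_mem (inv_mem hx) e
    exact hc ▸ mul_mem (mul_mem this hs.mem) (inv_mem this)
  · exact h.not_mem (mul_mem hx hs.mem) (inv_mem hx) (by simpa [mul_assoc] using e)
  · rw [← hc]; simpa [mul_assoc] using h0 (h.s_mem_Q0 hs)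
  · have e1 : t * r = s * t * r⁻¹ * (s * t)⁻¹ := by
      have e2 : t * r⁻¹ * t = s * (t * r⁻¹ * t) * s⁻¹ * s * (t * r * t) * s⁻¹ * (t * r⁻¹ * t) := by
        simp only [mul_assoc, inv_mul_cancel_left, h.tt', mul_inv_cancel_left]
      have e3 : r⁻¹ * t = t * s * t * r⁻¹ := by rw [hs.eq]; group
      calc t * r = (s * s) * t * r⁻¹ * (r * r) := by rw [ss]; group
        _ = s * t * (t * s * t * r⁻¹) * s := by rw [hr]; simp only [mul_assoc, h.tt']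
        _ = _ := by rw [← e3, mul_inv_rev, h.t_inv, inv_of_two hs.two]; group
    convert inv_mem h1 using 1
    calc _ = x * (s * t)⁻¹ * (t⁻¹ * r) * (s * t) * x⁻¹ := by group
      _ = _ := by rw [h.t_inv, e1]; group

/-- Simple groups with elementary abelian involution centralisers. -/
theorem binThm_of_elem [IsSimpleGroup G] (hB : Cfsg.IsStronglyEmbedded B)
    (hC : ∀ s x : G, orderOf s = 2 → Commute x s → x * x = 1) :
    BinThm G ∧ ∀ P : Sylow 2 G,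
      (Subgroup.center (P : Subgroup G)).map (P : Subgroup G).subtype = P := by
  obtain ⟨Q, t, h, hf, h2⟩ := bro.simple hB
  obtain ⟨s, r, hs⟩ := h.exists_SE
  have h0 : Q ≤ Q0g Q := fun x hx =>
    mem_Q0g_of hx (hC s x hs.two (h.commute_two h2 hs.two hs.mem hx).symm)
  have e : Q0g Q = Q := le_antisymm (Q0g_le Q) h0
  have hr : r = s := by
    rcases (h.good hf h2).tri s r hs with h3 | ⟨⟨x, hx, y, hy, h3⟩, -⟩
    · exact h3.1
    · exact absurd (h.commute_Q0 h2 (h0 hx) hy).eq h3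
  subst hr
  have hV := h.V_eq_bot h2 fun x hx h1 => by simpa only [e] using h.form_Q0 h2 hs (h0 hx) h1
  have rf := rf_of_V h hV (fun R h1 h3 => absurd (h3.trans h0) h1.not_ge) fun x hx _ => h0 hx
  refine ⟨rf.binThm, fun P => ?_⟩
  obtain ⟨P₀, hP₀⟩ := rf.exists_sylow
  obtain ⟨g, rfl⟩ := exists_smul_eq G P₀ P
  change (Subgroup.center (cj g P₀)).map (cj g P₀).subtype = cj g P₀
  rw [RF.center_cj, hP₀, rf.center_eq, e]

end general

namespace Sz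

variable {F : Type*} [Field F] (m : ℕ) [hF : SzField F m]

theorem se_B : Cfsg.IsStronglyEmbedded (B F m) := by
  refine stronglyEmbedded_iff.2 ⟨fun e => w_not_mem_B m (e ▸ mem_top _), ?_, fun s g hs hsB hg => ?_⟩
  · rw [card_B]; exact Even.mul_right (by simp [Nat.even_pow]) _
  · have hsQ : s ∈ Q F m := by
      by_contra e
      obtain ⟨u, -, hu⟩ := exists_conj_mem_H m hsB e
      have := odd_orderOf_of_mem (card_H (F := F) m ▸ odd_q_sub_one m) hu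
      rw [orderOf_conj', hs] at this
      exact absurd this (by decide)
    exact inv_mem_iff.1 (mem_B_of_conj_mem m hsQ (ne_one_of_two hs) (by simpa using hg))

theorem binThm : BinThm (Cfsg.Sz F m) := by
  haveI := isSimpleGroup (F := F) m
  obtain ⟨Q', t, h, hf, h2⟩ := bro.simple (se_B (F := F) m)
  obtain rfl : Q' = Q F m := ((QSylow F m).is_maximal' (h.good hf h2).two
    (h.le_Q_of_isPGroup (isPGroup_Q m) (Q_le_B m)))
  obtain ⟨s, r, hs⟩ := h.exists_SE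
  have hZ : ∀ {x}, x ∈ Z F m → x ∈ Q0g (Q F m) := fun ⟨b, e⟩ =>
    e ▸ mem_Q0g_of (U_mem_Q m 0 b) (U_zero_mul_self m b)
  refine (rf_of_V h (eq_bot_iff.2 fun v hv => ?_) (fun R h1 h3 => ?_) fun x hx hc =>
    hZ ((mem_Z_iff_comm m hx).2 fun u hu => (hc u hu).symm.eq)).binThm
  · have hsQ := h.mem_Q_of_two hs.mem (mul_self_of_two hs.two)
    exact h.eq_one_QD (mem_Q_of_comm m hsQ (ne_one_of_two hs.two) (h.commute_V hs hv).1.eq) hv.1
  · have hr : r ≠ s := fun e => by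
      have e1 := (h.r_eq_s_iff hs).1 e
      have e2 : orderOf (s * t) = 3 := orderOf_eq_prime e1 fun e3 =>
        h.not_mem hs.mem (one_mem _) (by rw [mul_one, e3]; exact one_mem _)
      exact not_three_dvd_card m (e2 ▸ orderOf_dvd_natCard (s * t))
    have hrr := (h.sq_r h2 hs ((h.good hf h2).four r hs.rQ) hr).1
    obtain ⟨y, hyR, hy0⟩ := SetLike.exists_of_lt h1
    obtain ⟨a, b, rfl⟩ := h3 hyR
    obtain ⟨c, d, e⟩ := hs.rQ
    have ha : a ≠ 0 := fun e => hy0 (hZ ⟨b, by rw [e]⟩)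
    have hc : c ≠ 0 := fun e1 => ne_one_of_two hs.two (by rw [← hrr, e, e1, U_zero_mul_self])
    refine tri_of_r h hs hrr (H_le_B m (D_mem_H m (Units.mk0 (a / c) (div_ne_zero ha hc)))) h1.le ?_
    rw [e, D_conj_U, Units.val_mk0, div_mul_cancel₀ _ hc]
    generalize a / c * σ m (a / c) * d = b'
    have := mul_mem hyR (h1.le (hZ (U_mem_Z m (b' - b))))
    simpa [U_mul] using this

theorem not_bin_of_odd {H : Subgroup (Cfsg.Sz F m)} (ho : Odd (Nat.card H)) (h1 : H ≠ ⊥) :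
    ¬ Bin (Cfsg.Sz F m) (Cfsg.Sz F m ⧸ H) := fun hb => by
  obtain ⟨T, hT, hHT⟩ := exists_le_oddPart ho h1
  obtain ⟨⟨x, hx⟩, hx1⟩ := ne_bot_iff_exists_ne_one.1 h1
  have hx1 : x ≠ 1 := fun e => hx1 (Subtype.ext e)
  have hxx : x * x ≠ 1 := fun e => hx1 (eq_one_of_mul_self (odd_orderOf_of_mem ho hx) e)
  have h2 := card_conj_pairs_ge hxx hx1
  let N := normalizer (T : Set (Cfsg.Sz F m))
  have c1 : ∀ {g y}, g ∈ N → y ∈ T → g * y * g⁻¹ ∈ T := fun hg hy => (mem_normalizer_iff.1 hg _).1 hy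
  have c2 : ∀ {g}, g * x * g⁻¹ ∈ T → g ∈ N := fun hg =>
    inv_mem_iff.1 (hT.mem_normalizer (hHT hx) hx1 (by simpa using hg))
  have key : ∀ p₁ p₂ : Cfsg.Sz F m, p₁ * x * p₁⁻¹ * (p₂ * x * p₂⁻¹) = x → p₁ ∈ N ∧ p₂ ∈ N := by
    intro p₁ p₂ e
    have e1 : p₂ * x * p₂⁻¹ = (p₁ * x * p₁⁻¹)⁻¹ * x := eq_inv_mul_of_mul_eq e
    have e2 : p₁ * x * p₁⁻¹ = x * (p₂ * x * p₂⁻¹)⁻¹ := eq_mul_inv_of_mul_eq e
    suffices p₁ ∈ N from ⟨this, c2 (e1 ▸ mul_mem (inv_mem (c1 this (hHT hx))) (hHT hx))⟩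
    by_contra hn
    obtain ⟨k, k1, k2, k3⟩ := hb.fix' x (p₁ * x * p₁⁻¹)
    have y1 : k ∈ H := by simpa using k1 1 (by simpa using hx)
    have y2 := k2 p₁ (by simpa [mul_assoc] using hx)
    have y3 := k3 p₂ (by rw [← e1]; simpa [mul_assoc] using hx)
    have hk : k = 1 := by
      by_contra hk
      exact hn (hT.mem_normalizer (hHT y1) hk (hHT y2))
    have y4 := hT.mem_normalizer (hHT hx) hx1 (by simpa [hk] using hHT y3)
    exact hn (c2 (e2 ▸ mul_mem (hHT hx) (inv_mem (c1 y4 (hHT hx)))))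
  have h3 : Nat.card {p : Cfsg.Sz F m × Cfsg.Sz F m // p.1 * x * p.1⁻¹ * (p.2 * x * p.2⁻¹) = x} ≤
      Nat.card N * Nat.card N := by
    rw [← Nat.card_prod]
    exact Nat.card_le_card_of_injective (fun p => (⟨p.1.1, (key _ _ p.2).1⟩, ⟨p.1.2, (key _ _ p.2).2⟩))
      fun p p' e => Subtype.ext (Prod.ext (congrArg (·.1.1) e) (congrArg (·.2.1) e))
  have h4 : Nat.card N ≤ 4 * Nat.card T := Nat.le_of_dvd (by positivity [Nat.card_pos (α := T)])
    hT.card_normalizer_dvd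
  have h5 : Nat.card T ≤ 2 ^ (2 * m + 1) + 2 ^ (m + 1) + 1 := by
    have := hT.card_eq
    generalize 2 ^ (2 * m + 1) = a at this ⊢
    generalize 2 ^ (m + 1) = b at this ⊢
    omega
  have h6 := h2.trans (Nat.mul_le_mul_left 32 (h3.trans (Nat.mul_le_mul
    (h4.trans (Nat.mul_le_mul_left 4 h5)) (h4.trans (Nat.mul_le_mul_left 4 h5)))))
  rw [card_Sz, show 2 ^ (2 * m + 1) = 2 * (2 ^ m) ^ 2 by ring, show 2 ^ (m + 1) = 2 * 2 ^ m by ring] at h6
  obtain ⟨k, hk⟩ := Nat.exists_eq_add_of_le (show 2 ≤ 2 ^ m from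
    (pow_one 2).ge.trans (Nat.pow_le_pow_right two_pos hF.one_le))
  rw [hk, show 2 * (2 + k) ^ 2 - 1 = 7 + 8 * k + 2 * k ^ 2 by
    rw [show 2 * (2 + k) ^ 2 = 7 + 8 * k + 2 * k ^ 2 + 1 by ring, Nat.add_sub_cancel]] at h6
  refine absurd h6 (not_le.2 ?_)
  zify
  rw [← sub_pos]
  ring_nf
  positivity

end Sz

end Cfsg.Lib.BN
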