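import Cfsg.Agent.Lib.BN.BinFam
import Cfsg.Agent.Lib.Known.Macbeath
import Cfsg.Agent.Lib.Linear.PSL2Klein

/-! Binary actions of `PSL₂(q)`. -/

set_option autoImplicit false

namespace Cfsg.Lib.BN

open MulAction Subgroup Cfsg.Lib.Invol Cfsg.Lib.Transfer Cfsg.Lib.BS Cfsg.Lib.Known Cfsg.Lib.Linear Matrix

namespace L2

variable {F : Type*} [Field F]

variable (F) in
/-- The upper triangular matrices. -/
def Bor : Subgroup (Known.SL2 F) where
  carrier := {g | (g : M2 F) 1 0 = 0}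
  one_mem' := by simp
  mul_mem' {a b} ha hb := by
    change _ = _ at ha hb
    simp [Matrix.mul_apply, Fin.sum_univ_two, ha, hb]
  inv_mem' {a} ha := by
    change _ = _ at ha
    simp [SpecialLinearGroup.coe_inv, adjugate_fin_two, ha]

theorem mem_Bor {g : Known.SL2 F} : g ∈ Bor F ↔ (g : M2 F) 1 0 = 0 := Iff.rfl

theorem triS_mem (a : Fˣ) (b : F) : triS a b ∈ Bor F := by simp [mem_Bor, coe_triS]

theorem mem_Bor_of_conj {g : Known.SL2 F} {a : Fˣ} (ha : a ^ 2 = 1) {b : F} (hb : b ≠ 0)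
    (h : g * triS a b * g⁻¹ ∈ Bor F) : g ∈ Bor F := by
  have e := (units_eq_inv_iff a).2 ha
  simp [mem_Bor, SpecialLinearGroup.coe_inv, adjugate_fin_two, Matrix.mul_apply, Fin.sum_univ_two,
    coe_triS, ← e] at h
  exact pow_eq_zero_iff two_ne_zero |>.1 ((mul_eq_zero.1 (show b * (g : M2 F) 1 0 ^ 2 = 0 by
    linear_combination -h)).resolve_left hb)

theorem exists_conj_two (h2 : (2 : F) = 0) {s : Known.SL2 F} (hs : orderOf s = 2) :
    ∃ b, b ≠ 0 ∧ IsConj s (triS 1 b) := by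
  refine exists_isConj_triS_par (fun e => ne_one_of_two hs (pmk_injective h2 ?_)) (one_pow 2) ?_
  · rw [map_one]; exact pmk_eq_one_iff.2 e
  · rw [h2, zero_mul, trace_fin_two]
    exact sl2_mul_self_eq_neg_one_iff.1 ((mul_self_of_two hs).trans (sl2_neg_one_eq_one h2).symm)

theorem triS_one_sq (h2 : (2 : F) = 0) (b : F) : triS (1 : Fˣ) b * triS 1 b = 1 := by
  rw [triS_mul, ← triS_one]; congr 1
  · simp
  · simp; linear_combination b * h2

theorem se_Bor [Finite F] (h2 : (2 : F) = 0) : Cfsg.IsStronglyEmbedded (Bor F) := by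
  refine stronglyEmbedded_iff.2 ⟨fun e => ?_, ?_, fun s g hs hsB hg => ?_⟩
  · let g : Known.SL2 F := ⟨!![1, 0; 1, 1], by simp [det_fin_two]⟩
    have : g ∈ Bor F := e ▸ mem_top g
    exact one_ne_zero (show (1 : F) = 0 from this)
  · have := orderOf_dvd_natCard (⟨_, triS_mem (F := F) 1 1⟩ : Bor F)
    rw [orderOf_mk, two_of_mul_self (triS_one_sq h2 1) fun e => by
      simpa using triS_inj.1 (e.trans triS_one.symm)] at this
    exact even_iff_two_dvd.2 this
  · obtain ⟨a, -, -, e⟩ := eq_triS_of_upper hsB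
    have e1 := mul_self_of_two hs
    rw [e, triS_mul, ← triS_one, triS_inj, ← sq] at e1
    rw [e] at hg
    refine mem_Bor_of_conj e1.1 (fun e2 => ne_one_of_two hs ?_) hg
    rw [e, e2, (units_sq_eq_one_iff_of_two h2 a).1 e1.1, triS_one]

theorem sq_of_commute (h2 : (2 : F) = 0) (s x : Known.SL2 F) (hs : orderOf s = 2) (hx : Commute x s) :
    x * x = 1 := by
  obtain ⟨b, hb, h⟩ := exists_conj_two h2 hs
  obtain ⟨g, hg⟩ := isConj_iff.1 h
  obtain ⟨e, c, he, hc⟩ := (mem_centralizer_triS_par_iff (one_pow 2) hb (x := g * x * g⁻¹)).1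
    (mem_centralizer_singleton_iff.2 (by
      rw [← hg]
      calc _ = g * (x * s) * g⁻¹ := by group
        _ = _ := by rw [hx.eq]; group))
  rw [(units_sq_eq_one_iff_of_two h2 e).1 he] at hc
  calc x * x = g⁻¹ * (g * x * g⁻¹ * (g * x * g⁻¹)) * g := by group
    _ = 1 := by rw [hc, triS_one_sq h2]; group

theorem binThm {G : Type*} [Group G] [Finite G] [IsSimpleGroup G] [Finite F] (h2 : (2 : F) = 0)
    (e : G ≃* Known.SL2 F) : BinThm G ∧ ∀ P : Sylow 2 G,
      (Subgroup.center (P : Subgroup G)).map (P : Subgroup G).subtype = P := by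
  refine binThm_of_elem (B := (Bor F).map e.symm.toMonoidHom) ?_ fun s x hs hx => e.injective ?_
  · obtain ⟨h1, h3, h4⟩ := stronglyEmbedded_iff.1 (se_Bor h2)
    refine stronglyEmbedded_iff.2 ⟨fun e1 => h1 (eq_top_iff.2 fun g _ => ?_), ?_, fun s g hs h5 h6 => ?_⟩
    · simpa using mem_map_equiv.1 (e1.ge (mem_top (e.symm g)))
    · rwa [card_map_of_injective e.symm.injective]
    · rw [mem_map_equiv, MulEquiv.symm_symm] at h5 h6 ⊢
      exact h4 _ _ ((e.orderOf_eq s).trans hs) h5 (by simpa using h6)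
  · rw [map_mul, map_one]
    exact sq_of_commute h2 _ _ ((e.orderOf_eq s).trans hs) (hx.map e)

end L2

end Cfsg.Lib.BN
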