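import Cfsg.Agent.Lib.BN.BinL2

/-! Binary actions of `PSL₂(q)`: point stabilisers of odd order, odd characteristic. -/

set_option autoImplicit false

namespace Cfsg.Lib.BN

open MulAction Subgroup Cfsg.Lib.Invol Cfsg.Lib.Transfer Cfsg.Lib.BS Cfsg.Lib.Known Cfsg.Lib.Linear Matrix

section general

variable {G : Type*} [Group G] [Finite G] {H B : Subgroup G}

theorem Bin.sq_eq_one (hb : Bin G (G ⧸ H)) (hHB : H ≤ B) {k u t : G} (hk : k ∈ H)
    (hkt : t⁻¹ * k * t ∈ H) (hc : Commute u (k * u * k⁻¹))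
    (h1 : ∀ x ∈ B, t⁻¹ * x * t ∈ B → (u * t)⁻¹ * x * (u * t) ∈ B → x = 1)
    (h2 : ∀ x ∈ B, t⁻¹ * x * t ∈ B →
      (k⁻¹ * u⁻¹ * k * t)⁻¹ * x * (k⁻¹ * u⁻¹ * k * t) ∈ B → x = 1) : k * k = 1 := by
  obtain ⟨x, x1, x2, x3⟩ := hb.fix' (k * k) (u * k * u⁻¹)
  have kk : t⁻¹ * (k * k) * t ∈ H := by convert mul_mem hkt hkt using 1; group
  have hx : x = 1 := h1 x (hHB (by simpa using x1 1 (by simpa using mul_mem hk hk))) (hHB (x1 t kk))
    (hHB (x2 _ (by convert hkt using 1; group)))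
  refine h2 _ (hHB (mul_mem hk hk)) (hHB kk) (hHB ?_)
  have := x3 (k⁻¹ * u⁻¹ * k * t) (by
    convert hkt using 1
    calc _ = t⁻¹ * k⁻¹ * u * (k * u * k⁻¹) * u⁻¹ * (k * u * k⁻¹)⁻¹ * k * k * t := by group
      _ = _ := by rw [mul_assoc _ u, hc.eq]; group)
  simpa [hx] using this

theorem Bin.commute (hb : Bin G (G ⧸ H)) (hH : ∀ x ∈ H, ∀ y ∈ H, Commute x y)
    (hC : ∀ k ∈ H, k ≠ 1 → ∀ x y, Commute x k → Commute y k → Commute x y) {a b g₂ g₃ : G}
    (ha : a ∈ H) (h2 : g₂⁻¹ * b * g₂ ∈ H) (h3 : g₃⁻¹ * (b⁻¹ * a) * g₃ ∈ H) : Commute a b := by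
  have key : ∀ {g x y : G}, g⁻¹ * x * g ∈ H → g⁻¹ * y * g ∈ H → Commute x y := fun {g x y} hx hy => by
    have := (hH _ hx _ hy).eq
    calc x * y = g * (g⁻¹ * x * g * (g⁻¹ * y * g)) * g⁻¹ := by group
      _ = y * x := by rw [this]; group
  obtain ⟨k, k1, k2, k3⟩ := hb.fix' a b
  have hk : k ∈ H := by simpa using k1 1 (by simpa using ha)
  by_cases h1 : k = 1
  · have := key (k3 _ h3) h3
    rw [h1, inv_one, one_mul] at this
    simpa using (this.mul_right (Commute.refl a).inv_right).inv_right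
  · exact hC k hk h1 a b (hH _ ha _ hk) (key h2 (k2 _ h2))

end general

namespace L2

variable {F : Type*} [Field F]

/-- An explicit element of `SL₂`. -/
def mk2 (a b c d : F) (h : a * d - b * c = 1) : Known.SL2 F := ⟨!![a, b; c, d], by simpa [det_fin_two] using h⟩

theorem coe_mk2 (a b c d : F) (h : a * d - b * c = 1) : (mk2 a b c d h : M2 F) = !![a, b; c, d] := rfl

theorem cmul (g h : Known.SL2 F) : ((g * h : Known.SL2 F) : M2 F) = (g : M2 F) * (h : M2 F) := rfl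

variable (F) in
/-- The Borel subgroup of `PSL₂`. -/
def PB : Subgroup (PSL2 F) := (Bor F).map (pmk F)

theorem pmk_mem_PB {g : Known.SL2 F} : pmk F g ∈ PB F ↔ (g : M2 F) 1 0 = 0 := by
  refine ⟨fun ⟨x, hx, e⟩ => ?_, fun h => ⟨g, h, rfl⟩⟩
  rcases pmk_eq_iff.1 e with rfl | rfl
  · exact hx
  · simpa using mem_Bor.1 hx

/-- The Weyl element. -/
def wl : Known.SL2 F := mk2 0 (-1) 1 0 (by simp)

theorem eq_one_of_three {β : F} (hβ : β ≠ 0) (x : PSL2 F) (h1 : x ∈ PB F)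
    (h2 : (pmk F wl)⁻¹ * x * pmk F wl ∈ PB F)
    (h3 : (pmk F (triS 1 β) * pmk F wl)⁻¹ * x * (pmk F (triS 1 β) * pmk F wl) ∈ PB F) : x = 1 := by
  obtain ⟨g, rfl⟩ := pmk_surjective x
  simp only [← map_mul, ← map_inv, pmk_mem_PB] at h1 h2 h3
  simp [wl, coe_mk2, coe_triS, SpecialLinearGroup.coe_inv, adjugate_fin_two, Matrix.mul_apply,
    Fin.sum_univ_two, h1, vecMul, dotProduct] at h2 h3
  exact pmk_eq_one_iff.2 ⟨h2, h1, mul_right_cancel₀ hβ (by linear_combination -h3 - h2)⟩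

theorem triS_conj (a : Fˣ) (β : F) : triS a 0 * triS 1 β * (triS a 0)⁻¹ = triS 1 (a * a * β) := by
  rw [mul_inv_eq_iff_eq_mul, triS_mul, triS_mul, triS_inj]
  exact ⟨by simp, by field_simp; simp⟩

theorem triS_conj' (a : Fˣ) (β : F) :
    (triS a 0)⁻¹ * (triS 1 β)⁻¹ * triS a 0 = triS 1 (-β / (a * a)) := by
  rw [mul_assoc, inv_mul_eq_iff_eq_mul, inv_mul_eq_iff_eq_mul, triS_mul, triS_mul, triS_inj]
  exact ⟨by simp, by field_simp; simp [mul_comm]⟩

theorem triS_one_comm (b c : F) : Commute (triS (1 : Fˣ) b) (triS 1 c) := by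
  rw [Commute, SemiconjBy, triS_mul, triS_mul, triS_inj]; simp [add_comm]

variable [Finite F] {H : Subgroup (PSL2 F)}

theorem sq_eq_one_of_diag (hb : Bin (PSL2 F) (PSL2 F ⧸ H)) (hH : H ≤ PB F) {a : Fˣ}
    (ha : pmk F (triS a 0) ∈ H) : pmk F (triS a 0) * pmk F (triS a 0) = 1 := by
  refine hb.sq_eq_one hH (u := pmk F (triS 1 1)) (t := pmk F wl) ha ?_ ?_
    (fun x => eq_one_of_three one_ne_zero x) fun x h1 h2 h3 => ?_
  · convert inv_mem ha using 1
    rw [← map_inv, ← map_inv, ← map_mul, ← map_mul]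
    congr 1
    ext i j
    fin_cases i <;> fin_cases j <;> simp [wl, coe_mk2, coe_triS, SpecialLinearGroup.coe_inv,
      adjugate_fin_two, Matrix.mul_apply, Fin.sum_univ_two]
  · rw [← map_inv, ← map_mul, ← map_mul, triS_conj]
    exact (triS_one_comm _ _).map _
  · rw [← map_inv _ (triS a 0), ← map_inv _ (triS 1 1), ← map_mul, ← map_mul, triS_conj'] at h3
    exact eq_one_of_three (by simp) x h1 h2 h3

theorem unip_of_bin (hb : Bin (PSL2 F) (PSL2 F ⧸ H)) (hH : H ≤ PB F) (ho : Odd (Nat.card H))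
    {x : PSL2 F} (hx : x ∈ H) : ∃ b, x = pmk F (triS 1 b) := by
  obtain ⟨g, hg, rfl⟩ := hH hx
  obtain ⟨a, -, -, e⟩ := eq_triS_of_upper hg
  generalize (g : M2 F) 0 1 = c at e
  subst e
  by_cases ha : a ^ 2 = 1
  · exact ⟨_, pmk_triS_par ha c⟩
  have h0 : (a : F) - (a : F)⁻¹ ≠ 0 := fun e => ha ((units_eq_inv_iff a).1 (sub_eq_zero.1 e))
  have e : triS 1 (c / (a - (a : F)⁻¹)) * triS a c * (triS 1 (c / (a - (a : F)⁻¹)))⁻¹ = triS a 0 := by
    rw [mul_inv_eq_iff_eq_mul, triS_mul, triS_mul, triS_inj]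
    exact ⟨by simp, by simp; linear_combination (-(mul_div_cancel₀ c h0))⟩
  have hx' := conj_mem_cj (g := pmk F (triS 1 (c / (a - (a : F)⁻¹)))).2 hx
  rw [← map_inv, ← map_mul, ← map_mul, e] at hx'
  have h1 := sq_eq_one_of_diag ((bin_cj_iff _).2 hb) (cj_le_iff.2 fun y hy => mul_mem (mul_mem
    (mem_map_of_mem _ (triS_mem _ _)) (hH hy)) (inv_mem (mem_map_of_mem _ (triS_mem _ _)))) hx'
  have h2 := eq_one_of_mul_self (odd_orderOf_of_mem (by rwa [card_cj]) hx') h1
  exact absurd ((isScal_triS_iff a 0).1 (pmk_eq_one_iff.1 h2)).2 ha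

theorem eq_bot_of_le_PB (hb : Bin (PSL2 F) (PSL2 F ⧸ H)) (hH : H ≤ PB F) (ho : Odd (Nat.card H)) :
    H = ⊥ := by
  refine eq_bot_iff.2 fun x hx => ?_
  obtain ⟨b, rfl⟩ := unip_of_bin hb hH ho hx
  by_cases h2 : (2 : F) = 0
  · exact eq_one_of_mul_self (odd_orderOf_of_mem ho hx) (by rw [← map_mul, triS_one_sq h2, map_one])
  by_contra h1
  have b0 : b ≠ 0 := fun e => h1 (by rw [e, triS_one, map_one]; exact one_mem _)
  have key : ∀ (g : Known.SL2 F) (y : PSL2 F), (g : M2 F) 1 0 ≠ 0 → y ∈ H →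
      (pmk F g)⁻¹ * y * pmk F g ∈ H → y = 1 := fun g y hg hy hy' => by
    obtain ⟨c, rfl⟩ := unip_of_bin hb hH ho hy
    by_contra hc
    have c0 : c ≠ 0 := fun e => hc (by rw [e, triS_one, map_one])
    have := hH hy'
    rw [← map_inv, ← map_mul, ← map_mul, pmk_mem_PB, ← mem_Bor] at this
    exact hg (inv_mem_iff.1 (mem_Bor_of_conj (g := g⁻¹) (one_pow 2) c0 (by rwa [inv_inv])))
  let g₂ : Known.SL2 F := mk2 1 0 (2 / b) 1 (by simp)
  let g₃ : Known.SL2 F := mk2 0 (-(b / 2)) (2 / b) 0 (by field_simp; simp)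
  obtain ⟨k, k1, k2, k3⟩ := hb.fix' (pmk F (triS 1 b)) (pmk F (g₂ * (triS 1 b)⁻¹ * g₂⁻¹))
  have n : (2 / b : F) ≠ 0 := div_ne_zero h2 b0
  have hk : k = 1 := key g₂ k n (by simpa using k1 1 (by simpa using hx))
    (k2 _ (by simpa [mul_assoc] using hx))
  refine h1 (key g₃ _ n hx ?_)
  have := k3 (pmk F g₃) (by
    convert inv_mem hx using 1
    simp only [← map_inv, ← map_mul]
    refine pmk_eq_iff.2 (Or.inr ?_)
    ext i j
    fin_cases i <;> fin_cases j <;> simp [g₂, g₃, coe_mk2, coe_triS, SpecialLinearGroup.coe_inv,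
      adjugate_fin_two, Matrix.mul_apply, Fin.sum_univ_two] <;> field_simp <;> ring_nf <;> simp)
  simpa [hk] using this

omit [Finite F] in
theorem fricke {y z : Known.SL2 F} (h : y * z = z * y) :
    (y : M2 F).trace ^ 2 + (z : M2 F).trace ^ 2 + ((y * z : Known.SL2 F) : M2 F).trace ^ 2 -
      (y : M2 F).trace * (z : M2 F).trace * ((y * z : Known.SL2 F) : M2 F).trace = 4 := by
  have h1 := y.2
  have h2 := z.2
  have e1 := congrArg (fun x : Known.SL2 F => (x : M2 F) 0 0) h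
  have e2 := congrArg (fun x : Known.SL2 F => (x : M2 F) 0 1) h
  have e3 := congrArg (fun x : Known.SL2 F => (x : M2 F) 1 0) h
  simp only [det_fin_two, cmul, trace_fin_two, m2_mul] at h1 h2 e1 e2 e3 ⊢
  grind

omit [Finite F] in
theorem comm_of_pmk {g x : Known.SL2 F} (h : (2 : F) = 0 ∨ ((x * g : Known.SL2 F) : M2 F).trace ≠ 0)
    (hc : Commute (pmk F x) (pmk F g)) : x * g = g * x := by
  rcases pmk_eq_iff.1 (show pmk F (g * x) = pmk F (x * g) by rw [map_mul, map_mul, hc.eq]) with e | e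
  · exact e
  rcases em ((2 : F) = 0) with h2 | h2
  · rwa [SL2_neg_eq_self h2] at e
  · have := congrArg (fun x : Known.SL2 F => (x : M2 F).trace) e
    simp only [trace_neg_SL2] at this
    rw [cmul g x, trace_mul_comm, ← cmul] at this
    exact absurd ((mul_eq_zero.1 (show 2 * ((x * g : Known.SL2 F) : M2 F).trace = 0 by
      linear_combination this)).resolve_left h2) (h.resolve_left h2)

omit [Finite F] in
theorem trace_ne_zero {g : Known.SL2 F} (ho : Odd (orderOf (pmk F g))) (h1 : pmk F g ≠ 1) :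
    (g : M2 F).trace ≠ 0 := fun e =>
  h1 (eq_one_of_mul_self ho (by rw [← sq]; exact orderOf_dvd_iff_pow_eq_one.1 (orderOf_pmk_dvd_two e)))

omit [Finite F] in
theorem cent_comm {k : PSL2 F} (ho : Odd (orderOf k)) (h1 : k ≠ 1) (x y : PSL2 F) (hx : Commute x k)
    (hy : Commute y k) : Commute x y := by
  obtain ⟨g, rfl⟩ := pmk_surjective k
  have key : ∀ x : Known.SL2 F, Commute (pmk F x) (pmk F g) →
      ∃ a b : F, (x : M2 F) = a • (1 : M2 F) + b • (g : M2 F) := fun x hx => by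
    refine exists_eq_of_comm (fun e => h1 (pmk_eq_one_iff.2 e)) ?_
    rcases mem_comap_centralizer_pmk.1 (mem_centralizer_singleton_iff.2 hx.eq) with e | e
    · exact congrArg Subtype.val e
    rcases em ((2 : F) = 0) with h2 | h2
    · rw [SL2_neg_eq_self h2] at e; exact congrArg Subtype.val e
    · have := SL2_trace_eq_of_isConj (isConj_of_mul_eq x e)
      rw [trace_neg_SL2] at this
      exact absurd ((mul_eq_zero.1 (show 2 * (g : M2 F).trace = 0 by
        linear_combination this)).resolve_left h2) (trace_ne_zero ho h1)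
  obtain ⟨x, rfl⟩ := pmk_surjective x
  obtain ⟨y, rfl⟩ := pmk_surjective y
  obtain ⟨a, b, e⟩ := key x hx
  obtain ⟨c, d, e'⟩ := key y hy
  refine Commute.map (show x * y = y * x from Subtype.ext ?_) _
  simp only [cmul, e, e', add_mul, mul_add, smul_mul_assoc, mul_smul_comm,
    one_mul, mul_one]
  module

theorem commute_of_bin (hb : Bin (PSL2 F) (PSL2 F ⧸ H)) (hc : IsCyclic H) (ho : Odd (Nat.card H))
    {g y z : Known.SL2 F} (hg : pmk F g ∈ H) (h4 : (g : M2 F).trace ^ 2 ≠ 4)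
    (hy : (y : M2 F).trace = (g : M2 F).trace) (hz : (z : M2 F).trace = (g : M2 F).trace)
    (h : pmk F (y * z) ∈ H) (h1 : pmk F (y * z) ≠ 1) : y * z = z * y := by
  obtain ⟨c, e⟩ := isConj_iff.1 (isConj_pmk_of_trace h4 (Or.inl hy))
  obtain ⟨c', e'⟩ := isConj_iff.1 (isConj_pmk_of_trace h4 (Or.inl hz))
  have := hb.commute (fun x hx y hy => commute_of_mulComm inferInstance hx hy)
    (fun k hk h1 => cent_comm (odd_orderOf_of_mem ho hk) h1) (b := pmk F y) (g₂ := c) (g₃ := c') h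
    (by rw [← e]; simpa [mul_assoc] using hg)
    (by rw [map_mul, inv_mul_cancel_left, ← e']; simpa [mul_assoc] using hg)
  refine comm_of_pmk (Or.inr (trace_ne_zero (odd_orderOf_of_mem ho h) h1)) ?_
  rw [map_mul] at this
  simpa using (Commute.refl (pmk F y)).inv_right.mul_right this.symm

theorem of_semisimple (hb : Bin (PSL2 F) (PSL2 F ⧸ H)) (hc : IsCyclic H) (ho : Odd (Nat.card H))
    {g : Known.SL2 F} (hg : pmk F g ∈ H) (h1 : pmk F g ≠ 1)
    (h4 : (2 : F) = 0 ∨ (g : M2 F).trace ^ 2 ≠ 4) : (2 : F) = 0 ∧ (g : M2 F).trace = 1 := by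
  have t0 := trace_ne_zero (odd_orderOf_of_mem ho hg) h1
  rcases em ((2 : F) = 0) with h2 | h2
  · refine ⟨h2, ?_⟩
    obtain ⟨a, b, e⟩ := exists_conic_point_two h2 t0 (g : M2 F).trace (g : M2 F).trace
    obtain ⟨y, z, hy, hz, e⟩ := exists_mul_of_conic (fun e => h1 (pmk_eq_one_iff.2 e)) e
    have := fricke (commute_of_bin hb hc ho hg (fun e => t0 (pow_eq_zero_iff two_ne_zero |>.1
      (by linear_combination e + 2 * h2))) hy hz (e ▸ hg) (e ▸ h1))
    rw [e, hy, hz] at this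
    exact mul_left_cancel₀ (pow_ne_zero 2 t0) (by
      linear_combination -this + ((g : M2 F).trace ^ 2 - 2) * h2)
  exfalso
  have h4 := h4.resolve_left h2
  have tr : ((-(g * g) : Known.SL2 F) : M2 F).trace = 2 - (g : M2 F).trace ^ 2 := by
    rw [trace_neg_SL2, cmul, m2_sq, g.2]
    simp [trace_fin_two]; ring
  have hgg : pmk F (-(g * g)) ∈ H := by rw [pmk_neg, map_mul]; exact mul_mem hg hg
  have hg1 : pmk F (-(g * g)) ≠ 1 := by
    rw [pmk_neg, map_mul]; exact fun e => h1 (eq_one_of_mul_self (odd_orderOf_of_mem ho hg) e)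
  obtain ⟨a, b, e⟩ := exists_conic_point h2 (t := ((-(g * g) : Known.SL2 F) : M2 F).trace)
    (fun e => mul_ne_zero (pow_ne_zero 2 t0) (sub_ne_zero.2 h4) (by rw [tr] at e; linear_combination e))
    (g : M2 F).trace (g : M2 F).trace
  obtain ⟨y, z, hy, hz, e⟩ := exists_mul_of_conic (fun e => hg1 (pmk_eq_one_iff.2 e)) e
  have := fricke (commute_of_bin hb hc ho hg h4 hy hz (e ▸ hgg) (e ▸ hg1))
  have t1 := trace_ne_zero (odd_orderOf_of_mem ho hgg) hg1
  rw [e, hy, hz, tr] at this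
  rw [tr] at t1
  exact mul_ne_zero (mul_ne_zero h2 (pow_ne_zero 2 t0)) t1 (by linear_combination -this)

theorem cyclic_or_le (ho : Odd (Nat.card H)) : IsCyclic H ∨ ∃ g, cj g H ≤ PB F := by
  obtain ⟨p, hp⟩ := CharP.exists F
  haveI : Fact p.Prime := ⟨CharP.char_is_prime F p⟩
  have ne : ∀ {K : Type _} [Group K], Nonempty (H ≃* K) → Odd (Nat.card K) := fun ⟨e⟩ => by
    rwa [← Nat.card_congr e.toEquiv]
  have ne' : ∀ {K : Type} [Group K], Nonempty (H ≃* K) → Odd (Nat.card K) := fun ⟨e⟩ => by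
    rwa [← Nat.card_congr e.toEquiv]
  have a5 : ¬ Odd (Nat.card (alternatingGroup (Fin 5))) := by
    rw [Nat.card_eq_fintype_card, card_alternatingGroup]; decide
  rcases dickson_psl2 p H with ⟨k, -, h | h⟩ | ⟨P, hP⟩ | ⟨-, h | h | h⟩ | ⟨-, h⟩ | ⟨R, h | ⟨h1, h⟩⟩
  · exact Or.inl h.1
  · have := ne' h
    rw [DihedralGroup.nat_card] at this
    exact absurd this (by simp)
  · right
    have hP0 : (P : Subgroup (PSL2 F)) ≠ ⊥ := P.ne_bot_of_dvd_card (by
      rw [← orderOf_pmk_triS_one p (one_ne_zero (α := F))]; exact orderOf_dvd_natCard _)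
    obtain ⟨z, hz, hz1, hc⟩ : ∃ z ∈ (P : Subgroup (PSL2 F)), z ≠ 1 ∧
        ∀ y ∈ (P : Subgroup (PSL2 F)), Commute z y := by
      haveI := (Subgroup.nontrivial_iff_ne_bot _).2 hP0
      haveI := P.isPGroup'.center_nontrivial
      obtain ⟨z, hz⟩ := exists_ne (1 : Subgroup.center (P : Subgroup (PSL2 F)))
      exact ⟨z.1, z.1.2, fun e => hz (Subtype.ext (Subtype.ext e)), fun y hy =>
        (congrArg Subtype.val (mem_center_iff.1 z.2 ⟨y, hy⟩)).symm⟩
    obtain ⟨n, hn⟩ := P.isPGroup' ⟨z, hz⟩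
    have hn : orderOf z ∣ p ^ n := orderOf_dvd_of_pow_eq_one (congrArg Subtype.val hn)
    have hq := char_dvd_natCard (F := F) p
    have cop : ∀ m, orderOf z ∣ m → p.Coprime m → False := fun m h1 h2 =>
      hz1 (orderOf_eq_one_iff.1 (Nat.eq_one_of_dvd_coprimes (h2.pow_left n) hn h1))
    obtain ⟨b, b0, hb⟩ : ∃ b, b ≠ 0 ∧ IsConj z (pmk F (triS 1 b)) := by
      rcases PSL2_types z with e | e | ⟨a, -, e⟩ | ⟨a, -, e⟩
      · exact absurd e hz1
      · exact e
      · refine (cop (Nat.card F - 1) ?_ ?_).elim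
        · rw [orderOf_of_isConj e, ← Nat.card_units]
          exact (orderOf_map_dvd _ _).trans ((orderOf_map_dvd _ _).trans (orderOf_dvd_natCard a))
        · exact Nat.Coprime.coprime_dvd_left hq (by
            simpa using (Nat.coprime_self_sub_right (Nat.card_pos (α := F))).2 (by simp))
      · refine (cop (Nat.card F + 1) ?_ ?_).elim
        · rw [orderOf_of_isConj e, ← card_U1]
          exact (orderOf_map_dvd _ _).trans ((orderOf_map_dvd _ _).trans (orderOf_dvd_natCard a))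
        · exact Nat.Coprime.coprime_dvd_left hq (by simp)
    obtain ⟨g, hg⟩ := isConj_iff.1 hb
    have key : ∀ y : PSL2 F, y * pmk F (triS 1 b) * y⁻¹ ∈ PB F → y ∈ PB F := fun y hy => by
      obtain ⟨y, rfl⟩ := pmk_surjective y
      rw [← map_inv, ← map_mul, ← map_mul, pmk_mem_PB] at hy
      exact pmk_mem_PB.2 (mem_Bor_of_conj (one_pow 2) b0 hy)
    refine ⟨g, cj_le_iff.2 fun x hx => key _ (key _ ?_)⟩
    have := (hc _ ((mem_normalizer_iff.1 (hP hx) z).1 hz)).eq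
    convert (pmk_mem_PB (g := triS 1 b)).2 (triS_mem 1 b) using 1
    rw [← hg]
    calc _ = g * (x * z * x⁻¹ * z) * (x * z * x⁻¹)⁻¹ * g⁻¹ := by group
      _ = _ := by rw [← this]; group
  · have := ne' h
    rw [Nat.card_eq_fintype_card, card_alternatingGroup] at this
    exact absurd this (by decide)
  · have := ne' h
    rw [Nat.card_eq_fintype_card, Fintype.card_perm] at this
    exact absurd this (by decide)
  · exact absurd (ne' h) a5
  · exact absurd (ne' h) a5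
  · have := ne h
    rw [card_PGL_two, mul_assoc, mul_comm _ (_ + 1), ← mul_assoc] at this
    exact absurd (Nat.odd_mul.1 this).1 (Nat.not_odd_iff_even.2 (Nat.even_mul_succ_self _))
  · have h2 := card_PSL_two_of_odd h1
    obtain ⟨k, hk⟩ := ne h
    obtain ⟨r, hr⟩ := h1
    rw [hk, hr, Nat.add_sub_cancel] at h2
    have : 2 * k + 1 = 2 * ((2 * r + 1) * r * (r + 1)) := by linarith
    omega

theorem card_eq_three (hb : Bin (PSL2 F) (PSL2 F ⧸ H)) (ho : Odd (Nat.card H)) (h1 : H ≠ ⊥) :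
    (2 : F) = 0 ∧ 3 ∣ Nat.card F + 1 ∧ Nat.card H = 3 := by
  have key : ∀ g, ¬ cj g H ≤ PB F := fun g hg => h1 (cj_eq_bot.1
    (eq_bot_of_le_PB ((bin_cj_iff g).2 hb) hg (by rwa [card_cj])))
  have hc := (cyclic_or_le ho).resolve_right fun ⟨g, hg⟩ => key g hg
  obtain ⟨x, rfl⟩ := (Subgroup.isCyclic_iff_exists_zpowers_eq_top H).1 hc
  have key' : ∀ a b, ¬ IsConj x (pmk F (triS a b)) := fun a b e => by
    obtain ⟨g, hg⟩ := isConj_iff.1 e
    exact key g (cj_zpowers_le.2 (hg ▸ pmk_mem_PB.2 (triS_mem a b)))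
  rcases PSL2_types x with e | ⟨b, -, e⟩ | ⟨a, -, e⟩ | ⟨z, hz, e⟩
  · exact absurd (zpowers_eq_bot.2 e) h1
  · exact absurd e (key' _ _)
  · exact absurd e (key' _ _)
  obtain ⟨g, hg⟩ := isConj_iff.1 e
  have h2 : pmk F (singerS F z) ≠ 1 := fun e => hz ((isScal_singerS_iff z).1 (pmk_eq_one_iff.1 e))
  obtain ⟨h3, h4⟩ := of_semisimple ((bin_cj_iff g).2 hb) (by
    rw [cj_def, MonoidHom.map_zpowers]; infer_instance) (by rwa [card_cj])
    (hg ▸ conj_mem_cj.2 (mem_zpowers x)) h2 (isTorus_singerS.tr z hz)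
  have h5 : orderOf (pmk F (singerS F z)) = 3 := orderOf_eq_prime (by
    rw [← map_pow, pow_three, ← SL2_neg_eq_self h3 (_ * _), ← map_one (pmk F)]
    congr 1
    refine Subtype.ext ?_
    rw [Matrix.SpecialLinearGroup.coe_neg, cmul, cmul, m2_sq, h4, (singerS F z).2, one_smul, one_smul,
      mul_sub, m2_sq, h4, (singerS F z).2]
    simp) h2
  refine ⟨h3, ?_, by rw [Nat.card_zpowers, orderOf_of_isConj e, h5]⟩
  rw [← h5, ← card_U1]
  exact (orderOf_map_dvd _ _).trans ((orderOf_map_dvd _ _).trans (orderOf_dvd_natCard z))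

omit [Finite F] in
theorem trace_eq_one (h2 : (2 : F) = 0) {g : Known.SL2 F} (h1 : g ≠ 1) (h3 : g * (g * g) = 1) :
    (g : M2 F).trace = 1 := by
  have h := congrArg Subtype.val h3
  rw [cmul, cmul, m2_sq, mul_sub, mul_smul_comm, m2_sq, g.2] at h
  have := (smul_one_add_smul_inj (A := g) (x := -(g : M2 F).trace) (y := (g : M2 F).trace ^ 2 - 1)
    (x' := 1) (y' := 0) (fun e => h1 (pmk_injective h2 ((pmk_eq_one_iff.2 e).trans (map_one _).symm)))
    (by
      simp only [one_smul, mul_one, Matrix.SpecialLinearGroup.coe_one] at h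
      linear_combination (norm := module) h)).1
  linear_combination -this - h2

omit [Finite F] in
theorem eq_of_trace_one (h2 : (2 : F) = 0) (h : ∀ c : F, c ^ 2 + c + 1 ≠ 0) {x y : Known.SL2 F}
    (hx : (x : M2 F).trace = 1) (hy : (y : M2 F).trace = 1)
    (hxy : ((x * y : Known.SL2 F) : M2 F).trace = 1) : x = y := by
  have d1 := x.2
  have d2 := y.2
  simp only [det_fin_two, cmul, trace_fin_two, m2_mul] at d1 d2 hx hy hxy
  refine Subtype.ext ?_
  generalize hX : (x : M2 F) = X at *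
  generalize hY : (y : M2 F) = Y at *
  have hf : X 0 1 + Y 0 1 = 0 := by
    by_contra hf
    refine h (X 0 0 + X 0 1 * (X 0 0 + Y 0 0) / (X 0 1 + Y 0 1)) ?_
    haveI : CharP F 2 := CharTwo.of_one_ne_zero_of_two_eq_zero one_ne_zero h2
    field_simp
    grind
  haveI : CharP F 2 := CharTwo.of_one_ne_zero_of_two_eq_zero one_ne_zero h2
  have hb : X 0 1 ≠ 0 := fun e => h (X 0 0) (by grind)
  have he : X 0 0 + Y 0 0 = 0 := pow_eq_zero_iff two_ne_zero |>.1 (by grind)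
  have hg : X 1 0 + Y 1 0 = 0 := mul_left_cancel₀ hb (by grind)
  exact m2_ext (by grind) (by grind) (by grind) (by grind)

omit [Finite F] in
theorem bin_three (h2 : (2 : F) = 0) (h : ∀ c : F, c ^ 2 + c + 1 ≠ 0) (h3 : Nat.card H = 3) :
    Bin (PSL2 F) (PSL2 F ⧸ H) := bin_quot_of fun g => by
  have tr : ∀ (c : PSL2 F) (x : Known.SL2 F), c⁻¹ * pmk F x * c ∈ H → x ≠ 1 → (x : M2 F).trace = 1 :=
    fun c x hx h1 => trace_eq_one h2 h1 (pmk_injective h2 (by
      have := orderOf_dvd_iff_pow_eq_one.1 (h3 ▸ orderOf_dvd_natCard (⟨_, hx⟩ : H))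
      have := orderOf_dvd_of_pow_eq_one (congrArg Subtype.val this)
      rw [orderOf_conj'] at this
      rw [← pow_three, map_pow, map_one]
      exact orderOf_dvd_iff_pow_eq_one.1 this))
  refine or_iff_not_imp_left.2 fun hn x hx y c hy hc => ?_
  by_contra e
  push Not at e
  obtain ⟨x, rfl⟩ := pmk_surjective x
  obtain ⟨y, rfl⟩ := pmk_surjective y
  have x1 : x ≠ 1 := fun e1 => e.1 (by rw [e1, map_one])
  have y1 : y⁻¹ ≠ 1 := fun e1 => e.2 (by rw [inv_eq_one.1 e1, map_one])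
  have hx' : pmk F x ∈ cj g H := by
    by_cases e1 : y⁻¹ * x = 1
    · rw [← inv_mul_eq_one.1 e1]; exact mem_cj.2 hy
    rw [← eq_of_trace_one h2 h (tr g y⁻¹ (by simpa [mul_assoc] using inv_mem hy) y1)
      (tr 1 x (by simpa using hx) x1) (tr c _ (by simpa using hc) e1), map_inv]
    exact inv_mem (mem_cj.2 hy)
  haveI : Finite H := Nat.finite_of_card_ne_zero (by omega)
  haveI : Fact (Nat.card H).Prime := ⟨h3 ▸ Nat.prime_three⟩
  refine hn fun w hw => mem_cj.1 ?_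
  obtain ⟨k, hk⟩ := mem_zpowers_of_prime_card (G := H) rfl (g := ⟨_, hx⟩) (g' := ⟨w, hw⟩)
    fun e1 => e.1 (congrArg Subtype.val e1)
  rw [← show pmk F x ^ k = w from congrArg Subtype.val hk]
  exact zpow_mem hx' k

theorem not_se (h2 : (2 : F) ≠ 0) (h7 : 5 < Nat.card F) (N : Subgroup (PSL2 F)) :
    ¬ Cfsg.IsStronglyEmbedded N := fun hN => by
  haveI := psl_fin_isSimpleGroup (F := F) le_rfl fun _ => by omega
  obtain ⟨x, y, hxy⟩ := binary_form_surj h2 (a := 1) (b := 0) (c := 1)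
    (by simpa using four_ne_zero_of_two h2) (-1)
  obtain ⟨u, hu⟩ : ∃ u : F, u * (u ^ 2 - 1) * (u ^ 2 + 1) ≠ 0 := by
    classical
    by_contra e
    push Not at e
    haveI := Fintype.ofFinite F
    have h0 : (Polynomial.X * (Polynomial.X ^ 2 - 1) * (Polynomial.X ^ 2 + 1) : Polynomial F) = 0 :=
      Polynomial.eq_zero_of_natDegree_lt_card_of_eval_eq_zero _ Function.injective_id
        (fun u => by simpa using e u) (lt_of_le_of_lt (b := 5) (by compute_degree)
          (by rwa [← Nat.card_eq_fintype_card]))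
    have := congrArg (Polynomial.coeff · 5) h0
    have h5 : (Polynomial.X * (Polynomial.X ^ 2 - 1) * (Polynomial.X ^ 2 + 1) : Polynomial F) =
      Polynomial.X ^ 5 - Polynomial.X := by ring
    simp [h5, Polynomial.coeff_X] at this
  have u0 : u ≠ 0 := fun e => hu (by simp [e])
  have u1 : u ^ 2 - 1 ≠ 0 := fun e => hu (by simp [e])
  have u2 : u ^ 2 + 1 ≠ 0 := fun e => hu (by simp [e])
  obtain ⟨c, hc⟩ : ∃ c, c = (u ^ 2 - 1) / (u ^ 2 + 1) := ⟨_, rfl⟩
  obtain ⟨s, hs⟩ : ∃ s, s = 2 * u / (u ^ 2 + 1) := ⟨_, rfl⟩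
  have c0 : c ≠ 0 := hc ▸ div_ne_zero u1 u2
  have s0 : s ≠ 0 := hs ▸ div_ne_zero (mul_ne_zero h2 u0) u2
  have cs : c ^ 2 + s ^ 2 = 1 := by rw [hc, hs]; field_simp; ring
  let a : Known.SL2 F := mk2 x y y (-x) (by linear_combination -hxy)
  let b : Known.SL2 F := mk2 (c * x - s * y) (s * x + c * y) (s * x + c * y) (-(c * x - s * y))
    (by linear_combination -(c ^ 2 + s ^ 2) * hxy + cs)
  have two : ∀ g : Known.SL2 F, (g : M2 F).trace = 0 → orderOf (pmk F g) = 2 := fun g hg =>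
    two_of_mul_self (by rw [← map_mul, SL2_sq_eq_neg_one_iff.2 hg, pmk_neg, map_one])
      fun e => not_isScal_of_trace_zero h2 hg (pmk_eq_one_iff.1 e)
  have cw : ∀ (p r : F) (e), Commute (pmk F (mk2 p r r (-p) e)) (pmk F wl) := fun p r e => by
    rw [Commute, SemiconjBy, ← map_mul, ← map_mul]
    refine pmk_eq_iff.2 (Or.inr ?_)
    ext i j
    fin_cases i <;> fin_cases j <;> simp [wl, coe_mk2, Matrix.mul_apply, Fin.sum_univ_two]
  have hw := two wl (by simp [wl, coe_mk2])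
  have ha := two a (by simp [a, coe_mk2])
  have hb := two b (by simp [b, coe_mk2])
  obtain ⟨t, htN, ht⟩ := se_exists_two hN
  obtain ⟨g, hg⟩ := isConj_iff.1 (se_isConj hN ht hw)
  have hN' : Cfsg.IsStronglyEmbedded (cj g N) := se_conj hN g
  obtain ⟨Q, t', r, -, r2⟩ := bro.simple hN'
  have hwN : pmk F wl ∈ cj g N := hg ▸ conj_mem_cj.2 htN
  have := r.commute_twos r2 ha (se_mem_of_commute hN' hw hwN (cw _ _ _)) (mul_self_of_two hb)
    (se_mem_of_commute hN' hw hwN (cw _ _ _))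
  have := comm_of_pmk (Or.inr (by
    simp [a, b, cmul, coe_mk2, trace_fin_two]
    exact fun e => mul_ne_zero h2 c0 (by linear_combination -e + 2 * c * hxy))) this
  have := congrArg (fun x : Known.SL2 F => (x : M2 F) 0 1) this
  simp [a, b, cmul, coe_mk2, Matrix.mul_apply, Fin.sum_univ_two] at this
  exact mul_ne_zero h2 s0 (by linear_combination -this + 2 * s * hxy)

end L2

end Cfsg.Lib.BN
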