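import Mathlib.NumberTheory.Niven
import Mathlib.Tactic

/-! The algebraic part of the Feit-Higman theorem. -/

set_option autoImplicit false

namespace Cfsg.Lib.BN.FH

open Finset

/-- alternating application of two maps -/
def alt {X : Type*} (f g : X → X) (x : X) : ℕ → X × X
  | 0 => (x, x)
  | k + 1 => (f (alt f g x k).2, g (alt f g x k).1)

theorem sum_alt {M : Type*} [AddCommGroup M] {p q : ℕ → M} {n : ℕ} (h0 : p 0 = q 0) (h : p n = q n) :
    ∑ k ∈ range n, (q k + p (k + 1)) = ∑ k ∈ range n, (p k + q (k + 1)) := by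
  have h1 := (sum_range_succ p n).symm.trans (sum_range_succ' p n)
  have h2 := (sum_range_succ q n).symm.trans (sum_range_succ' q n)
  rw [sum_add_distrib, sum_add_distrib]
  linear_combination (norm := module) h2 - h1 - h0 + h

/-- the coefficients -/
noncomputable def xi (a b l : ℝ) : ℕ → (ℝ × ℝ) × (ℝ × ℝ) :=
  alt (fun x => (x.1, (l * x.1 - x.2) / a)) (fun x => ((x.2 - x.1) / b, x.2)) (1, l / (a + 1))

/-- the orbit of the first basis vector -/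
noncomputable def et (a b l : ℝ) : ℕ → (ℝ × ℝ) × (ℝ × ℝ) :=
  alt (fun x => (a * x.1 + l * x.2, -x.2)) (fun x => (-x.1, x.1 + b * x.2)) (1, 0)

/-- the terms of the Schur element -/
noncomputable def tm (a b l : ℝ) (k : ℕ) : ℝ := (xi a b l k).2.1 * ((1 + a) * (et a b l k).2.1 + l * (et a b l k).2.2)

variable {R : Type*} [Ring R] [Algebra ℝ R]

/-- the data of a Hecke algebra of rank two -/
structure Hk (τ : R →ₗ[ℝ] ℝ) (e A B : R) (a b : ℝ) (n : ℕ) : Prop where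
  ee : e * e = e
  eA : e * A = A
  eB : e * B = B
  AA : A * A = (a - 1) • A + a • e
  BB : B * B = (b - 1) • B + b • e
  braid : (alt (A * ·) (B * ·) e n).1 = (alt (A * ·) (B * ·) e n).2
  tr : ∀ k < n, τ (alt (A * ·) (B * ·) e (k + 1)).1 = 0 ∧ τ (alt (A * ·) (B * ·) e (k + 1)).2 = 0
  pos : 0 < n
  rat : ∀ x : R, x * x = x → ∃ q : ℚ, τ x = q
  ne : τ e ≠ 0

theorem Hk.exists_idem {τ : R →ₗ[ℝ] ℝ} {e A B : R} {a b : ℝ} {n : ℕ} (h : Hk τ e A B a b n) (ha : a ≠ 0) (hb : b ≠ 0) {l : ℝ}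
    (hx : (xi a b l n).1 = (xi a b l n).2) : ∃ U : R, τ U = τ e ∧ U * U = (∑ k ∈ range n, tm a b l k) • U := by
  set w := alt (A * ·) (B * ·) e with hw
  have w1 : ∀ k, (w (k + 1)).1 = A * (w k).2 := fun _ => rfl
  have w2 : ∀ k, (w (k + 1)).2 = B * (w k).1 := fun _ => rfl
  have he : ∀ k, e * (w k).1 = (w k).1 ∧ e * (w k).2 = (w k).2 := fun k => by
    cases k with
    | zero => exact ⟨h.ee, h.ee⟩
    | succ k => rw [w1, w2, ← mul_assoc, ← mul_assoc, h.eA, h.eB]; exact ⟨rfl, rfl⟩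
  have hA : ∀ k, A * (A * (w k).2) = (a - 1) • (A * (w k).2) + a • (w k).2 := fun k => by
    rw [← mul_assoc, h.AA, add_mul, smul_mul_assoc, smul_mul_assoc, (he k).2]
  have hB : ∀ k, B * (B * (w k).1) = (b - 1) • (B * (w k).1) + b • (w k).1 := fun k => by
    rw [← mul_assoc, h.BB, add_mul, smul_mul_assoc, smul_mul_assoc, (he k).1]
  obtain ⟨U, hU⟩ : ∃ U, U = ∑ k ∈ range n, ((xi a b l k).2.1 • (w k).2 + (xi a b l (k + 1)).1.1 • (w (k + 1)).1) := ⟨_, rfl⟩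
  obtain ⟨V, hV⟩ : ∃ V, V = ∑ k ∈ range n, ((xi a b l k).2.2 • (w k).2 + (xi a b l (k + 1)).1.2 • (w (k + 1)).1) := ⟨_, rfl⟩
  have hU' := hU.trans (sum_alt (p := fun k => (xi a b l k).1.1 • (w k).1) (q := fun k => (xi a b l k).2.1 • (w k).2) rfl
    (by simp only [hx, hw, h.braid]))
  have hV' := hV.trans (sum_alt (p := fun k => (xi a b l k).1.2 • (w k).1) (q := fun k => (xi a b l k).2.2 • (w k).2) rfl
    (by simp only [hx, hw, h.braid]))
  have x1 : ∀ k, (xi a b l (k + 1)).1 = ((xi a b l k).2.1, (l * (xi a b l k).2.1 - (xi a b l k).2.2) / a) := fun _ => rfl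
  have x2 : ∀ k, (xi a b l (k + 1)).2 = (((xi a b l k).1.2 - (xi a b l k).1.1) / b, (xi a b l k).1.2) := fun _ => rfl
  have eU : e * U = U := by simp only [hU, mul_sum, mul_add, mul_smul_comm, he]
  have AU : A * U = a • U := by
    simp only [hU, mul_sum, smul_sum, mul_add, mul_smul_comm, w1, x1, hA]
    exact sum_congr rfl fun k _ => by module
  have AV : A * V = l • U - V := by
    simp only [hU, hV, mul_sum, smul_sum, ← sum_sub_distrib, mul_add, mul_smul_comm, w1, x1, hA]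
    exact sum_congr rfl fun k _ => by match_scalars <;> field_simp <;> ring
  have BU : B * U = V - U := by
    simp only [hU', hV', mul_sum, ← sum_sub_distrib, mul_add, mul_smul_comm, w2, x2, hB]
    exact sum_congr rfl fun k _ => by match_scalars <;> field_simp <;> ring
  have BV : B * V = b • V := by
    simp only [hV', mul_sum, smul_sum, mul_add, mul_smul_comm, w2, x2, hB]
    exact sum_congr rfl fun k _ => by module
  have act : ∀ k, (w k).1 * U = (et a b l k).1.1 • U + (et a b l k).1.2 • V ∧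
      (w k).2 * U = (et a b l k).2.1 • U + (et a b l k).2.2 • V := fun k => by
    induction k with
    | zero => simpa [et, alt, hw] using eU
    | succ k ih =>
      rw [w1, w2, mul_assoc, mul_assoc, ih.1, ih.2]
      simp only [mul_add, mul_smul_comm, AU, AV, BU, BV, et, alt]
      constructor <;> module
  refine ⟨U, ?_, ?_⟩
  · obtain ⟨m, rfl⟩ := Nat.exists_eq_succ_of_ne_zero h.pos.ne'
    rw [hU, map_sum, sum_range_succ', sum_eq_zero fun k hk => by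
      simp [hw, (h.tr k (by simp at hk; omega)).2, (h.tr (k + 1) (by simpa using hk)).1]]
    simpa [(h.tr 0 h.pos).1, xi, alt, hw] using (h.tr 0 h.pos).1
  · nth_rewrite 1 [hU]
    simp only [sum_mul, sum_smul, add_mul, smul_mul_assoc, w1, mul_assoc, act, mul_add, mul_smul_comm, AU, AV, x1, tm]
    exact sum_congr rfl fun k _ => by module

section Closed
variable {α β κ : ℝ} {s : ℕ → ℝ} (hα : α ≠ 0) (hβ : β ≠ 0) (s0 : s 0 = 0) (s1 : s 1 = 1) (hs : ∀ i, s (i + 2) = κ * s (i + 1) - s i)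

include hs in
theorem cassini (i : ℕ) : s (i + 1) ^ 2 - κ * s i * s (i + 1) + s i ^ 2 = s 1 ^ 2 - κ * s 0 * s 1 + s 0 ^ 2 := by
  induction i with
  | zero => rfl
  | succ i ih => rw [hs, ← ih]; ring

include hs in
theorem sum_sq (p : ℕ) : (4 - κ ^ 2) * ∑ i ∈ range p, s (i + 1) ^ 2 =
    2 * p * (s 1 ^ 2 - κ * s 0 * s 1 + s 0 ^ 2) - (s (p + 1) ^ 2 - s p ^ 2) + (s 1 ^ 2 - s 0 ^ 2) := by
  induction p with
  | zero => simp
  | succ p ih => rw [sum_range_succ, mul_add, ih, hs]; push_cast; linear_combination 2 * cassini hs p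

include hα hβ s0 s1 hs

theorem et_even (i : ℕ) : et (α ^ 2) (β ^ 2) (α ^ 2 + β ^ 2 + α * β * κ) (2 * i) =
    (((α * β) ^ i * (s (i + 1) + s i * β / α), -(α * β) ^ i * s i / (α * β)),
      ((α * β) ^ i * (s (i + 1) - s i * (κ + α / β)), (α * β) ^ i * s i * α / β)) := by
  induction i with
  | zero => simp [et, alt, s0, s1]
  | succ i ih =>
    rw [mul_add, mul_one]
    unfold et at *
    simp only [alt, ih, hs, Prod.mk.injEq]
    refine ⟨⟨?_, ?_⟩, ?_, ?_⟩ <;> field_simp <;> ring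

theorem xi_even (i : ℕ) : xi (α ^ 2) (β ^ 2) (α ^ 2 + β ^ 2 + α * β * κ) (2 * i) =
    let m := (α ^ 2 + β ^ 2 + α * β * κ) / (α ^ 2 + 1)
    (((s (i + 1) - s i * (κ - α * (m - 1) / β)) / (α * β) ^ i,
      (s (i + 1) * m - s i * (κ * m - ((α ^ 2 + 1) * m * (m - 1) / β ^ 2 - m) * β / α)) / (α * β) ^ i),
      ((s (i + 1) - s i * (κ - α * (m - 1) / β)) / (α * β) ^ i, (s (i + 1) * m - s i * (κ * m - α * β * m)) / (α * β) ^ i)) := by
  induction i with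
  | zero => simp [xi, alt, s0, s1]
  | succ i ih =>
    rw [mul_add, mul_one]
    unfold xi at *
    simp only [alt, ih, hs, Prod.mk.injEq]
    refine ⟨⟨?_, ?_⟩, ?_, ?_⟩ <;> field_simp <;> ring

theorem sum_tm (p : ℕ) : ∑ k ∈ range (2 * p), tm (α ^ 2) (β ^ 2) (α ^ 2 + β ^ 2 + α * β * κ) k =
    (1 + α ^ 2) * ∑ i ∈ range p, ((s (i + 1) - s i * (κ - α * (β ^ 2 + α * β * κ - 1) / (β * (α ^ 2 + 1)))) ^ 2 +
      (s (i + 2) - s (i + 1) * (κ - α * (β ^ 2 + α * β * κ - 1) / (β * (α ^ 2 + 1)))) ^ 2 / α ^ 2) := by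
  induction p with
  | zero => simp
  | succ p ih =>
    have h1 := et_even hα hβ s0 s1 hs p
    have h2 := xi_even hα hβ s0 s1 hs p
    rw [mul_add, mul_one, sum_range_succ, sum_range_succ, ih, sum_range_succ, add_assoc]
    rw [mul_add (1 + α ^ 2)]
    congr 1
    unfold tm xi et at *
    simp only [alt, h1, h2, hs]
    field_simp
    ring

theorem sum_tm' (p : ℕ) {g : ℝ} (hg : α * (β ^ 2 + α * β * κ - 1) / (β * (α ^ 2 + 1)) = g) :
    (4 - κ ^ 2) * ∑ k ∈ range (2 * p), tm (α ^ 2) (β ^ 2) (α ^ 2 + β ^ 2 + α * β * κ) k =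
    (1 + α ^ 2) * ((1 + 1 / α ^ 2) * (2 * p * (g ^ 2 - κ * g + 1) - ((g * s (p + 1) - s p) ^ 2 - (s (p + 1) - s p * (κ - g)) ^ 2) +
      (g ^ 2 - 1)) + (4 - κ ^ 2) * (1 - (s (p + 1) - s p * (κ - g)) ^ 2)) := by
  have h1 := sum_sq (s := fun i => s (i + 1) - s i * (κ - g)) (κ := κ) (fun i => by simp only [hs]; ring) p
  have h2 := (sum_range_succ (fun i => (s (i + 1) - s i * (κ - g)) ^ 2) p).symm.trans (sum_range_succ' _ p)
  rw [sum_tm hα hβ s0 s1 hs, hg, sum_add_distrib, ← sum_div]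
  simp only [hs p, hs 0, s0, s1, zero_add] at h1 h2
  linear_combination (1 + α ^ 2) * ((1 + 1 / α ^ 2) * h1 + (4 - κ ^ 2) * h2)

theorem sum_even {p : ℕ} (hp : s p = 0) : (xi (α ^ 2) (β ^ 2) (α ^ 2 + β ^ 2 + α * β * κ) (2 * p)).1 =
    (xi (α ^ 2) (β ^ 2) (α ^ 2 + β ^ 2 + α * β * κ) (2 * p)).2 ∧
    (4 - κ ^ 2) * (α * β) ^ 2 * ∑ k ∈ range (2 * p), tm (α ^ 2) (β ^ 2) (α ^ 2 + β ^ 2 + α * β * κ) k =
      2 * p * ((α ^ 2 + β ^ 2 + α * β * κ) * ((α * β) ^ 2 + 1 - α * β * κ)) := by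
  have h1 := cassini hs p
  simp only [hp, s0, s1] at h1
  refine ⟨by simp [xi_even hα hβ s0 s1 hs, hp], ?_⟩
  rw [mul_right_comm, sum_tm' hα hβ s0 s1 hs p rfl]
  simp only [hp, zero_mul, sub_zero, mul_pow, show s (p + 1) ^ 2 = 1 by linarith]
  field_simp
  ring

omit hβ in
theorem sum_odd {p : ℕ} (hp : s (p + 1) = -s p) : (xi (α ^ 2) (α ^ 2) (α ^ 2 + α ^ 2 + α * α * κ) (2 * p + 1)).1 =
    (xi (α ^ 2) (α ^ 2) (α ^ 2 + α ^ 2 + α * α * κ) (2 * p + 1)).2 ∧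
    (4 - κ ^ 2) * (α * α) ^ 2 * ∑ k ∈ range (2 * p + 1), tm (α ^ 2) (α ^ 2) (α ^ 2 + α ^ 2 + α * α * κ) k =
      (2 * p + 1) * ((α ^ 2 + α ^ 2 + α * α * κ) * ((α * α) ^ 2 + 1 - α * α * κ)) := by
  have h1 := cassini hs p
  have h2 := xi_even hα hα s0 s1 hs p
  have h3 := et_even hα hα s0 s1 hs p
  simp only [hp, s0, s1] at h1 h2 h3
  constructor
  · unfold xi at *
    simp only [alt, h2, Prod.mk.injEq]
    constructor <;> field_simp <;> ring
  · rw [mul_right_comm, sum_range_succ, mul_add, sum_tm' hα hα s0 s1 hs p rfl, tm, h2, h3]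
    simp only [hp]
    field_simp
    linear_combination (2 + κ) * (1 + 2 * α ^ 2 - 2 * α ^ 6 - α ^ 8) * h1

end Closed

theorem Hk.rat_of {τ : R →ₗ[ℝ] ℝ} {e A B : R} {a b : ℝ} {n : ℕ} (h : Hk τ e A B a b n) (ha : a ≠ 0) (hb : b ≠ 0) {l x y : ℝ}
    (hx : (xi a b l n).1 = (xi a b l n).2) (h1 : x * ∑ k ∈ range n, tm a b l k = n * y) (hy : y ≠ 0) : ∃ q : ℚ, y = q * x := by
  obtain ⟨U, h2, h3⟩ := h.exists_idem ha hb hx
  generalize ∑ k ∈ range n, tm a b l k = σ at *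
  have hn : (n : ℝ) ≠ 0 := Nat.cast_ne_zero.2 h.pos.ne'
  have hσ : σ ≠ 0 := fun e => mul_ne_zero hn hy (by rw [← h1, e, mul_zero])
  obtain ⟨q, hq⟩ := h.rat (σ⁻¹ • U) (by rw [smul_mul_smul_comm, h3, smul_smul, inv_mul_cancel_right₀ hσ])
  obtain ⟨q', hq'⟩ := h.rat e h.ee
  rw [map_smul, h2, smul_eq_mul, inv_mul_eq_iff_eq_mul₀ hσ] at hq
  have h4 : (q : ℝ) ≠ 0 := fun e => h.ne (by rw [hq, e, mul_zero])
  refine ⟨q' / (q * n), ?_⟩
  push_cast
  rw [← hq', hq]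
  field_simp
  linear_combination -h1

open Real

theorem sin_rec (θ : ℝ) (i : ℕ) : sin ((i + 2 : ℕ) * θ) / sin θ = 2 * cos θ * (sin ((i + 1 : ℕ) * θ) / sin θ) - sin (i * θ) / sin θ := by
  have h1 := sin_add (((i + 1 : ℕ) : ℝ) * θ) θ
  have h2 := sin_sub (((i + 1 : ℕ) : ℝ) * θ) θ
  rw [show ((i + 1 : ℕ) : ℝ) * θ + θ = (i + 2 : ℕ) * θ by push_cast; ring] at h1
  rw [show ((i + 1 : ℕ) : ℝ) * θ - θ = i * θ by push_cast; ring] at h2
  rw [h1, h2]; ring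

theorem pos_aux {α β κ : ℝ} (hα : 0 < α) (hβ : 0 < β) (h : κ ^ 2 < 4) :
    (α ^ 2 + β ^ 2 + α * β * κ) * ((α * β) ^ 2 + 1 - α * β * κ) ≠ 0 := by
  have h1 := abs_lt.1 (abs_lt_of_sq_lt_sq (show κ ^ 2 < 2 ^ 2 by linarith) two_pos.le)
  have h2 := mul_pos hα hβ
  exact (mul_pos (by nlinarith [sq_nonneg (α - β)]) (by nlinarith [sq_nonneg (α * β - 1)])).ne'

theorem cos_sq_lt {θ : ℝ} (h : sin θ ≠ 0) : (2 * cos θ) ^ 2 < 4 := by nlinarith [sin_sq_add_cos_sq θ, sq_pos_of_ne_zero h]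

theorem Hk.even_aux {τ : R →ₗ[ℝ] ℝ} {e A B : R} {a b p : ℕ} (h : Hk τ e A B a b (2 * p)) (ha : 0 < a) (hb : 0 < b) {θ : ℝ}
    (h1 : sin θ ≠ 0) (h2 : sin (p * θ) = 0) : ∃ q : ℚ, (a + b + √a * √b * (2 * cos θ)) * (a * b + 1 - √a * √b * (2 * cos θ)) =
      q * (4 * a * b - (√a * √b * (2 * cos θ)) ^ 2) := by
  have hα := sqrt_pos.2 (Nat.cast_pos.2 ha : (0 : ℝ) < a)
  have hβ := sqrt_pos.2 (Nat.cast_pos.2 hb : (0 : ℝ) < b)
  obtain ⟨h3, h4⟩ := sum_even (κ := 2 * cos θ) (s := fun i : ℕ => sin (i * θ) / sin θ) hα.ne' hβ.ne' (by simp) (by simp [h1]) (sin_rec θ)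
    (p := p) (by simp [h2])
  have h5 := pos_aux hα hβ (cos_sq_lt h1)
  rw [mul_pow √(a : ℝ), sq_sqrt a.cast_nonneg, sq_sqrt b.cast_nonneg] at h4 h5
  rw [sq_sqrt a.cast_nonneg, sq_sqrt b.cast_nonneg] at h3
  obtain ⟨q, hq⟩ := h.rat_of (by positivity) (by positivity) h3 (h4.trans (by push_cast; rfl)) h5
  exact ⟨q, by rw [hq, mul_pow (√a * √b), mul_pow √a, sq_sqrt a.cast_nonneg, sq_sqrt b.cast_nonneg]; ring⟩

theorem Hk.even_rat {τ : R →ₗ[ℝ] ℝ} {e A B : R} {a b p : ℕ} (h : Hk τ e A B a b (2 * p)) (ha : 2 ≤ a) (hb : 2 ≤ b) {θ : ℝ}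
    (h1 : sin θ ≠ 0) (h2 : sin (p * θ) = 0) : ∃ q : ℚ, √a * √b * (2 * cos θ) = q := by
  obtain ⟨q, e1⟩ := h.even_aux (by omega) (by omega) h1 h2
  obtain ⟨q', e2⟩ := h.even_aux (θ := π - θ) (by omega) (by omega) (by rwa [sin_pi_sub]) (by rw [mul_sub, sin_sub, h2]; simp)
  rw [cos_pi_sub] at e2
  generalize hc : √a * √b * (2 * cos θ) = c at e1
  rw [show √a * √b * (2 * -cos θ) = -c by rw [← hc]; ring] at e2
  have ha' : (2 : ℝ) ≤ a := by exact_mod_cast ha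
  have hb' : (2 : ℝ) ≤ b := by exact_mod_cast hb
  have e3 : ((q + q' - 2 : ℚ) : ℝ) * (4 * a * b - c ^ 2) = 2 * ((a + b) * (a * b + 1) - 4 * a * b) := by
    push_cast; linear_combination -e1 - e2
  have h3 : ((q + q' - 2 : ℚ) : ℝ) ≠ 0 := fun e => by
    rw [e, zero_mul] at e3
    nlinarith [mul_nonneg (mul_nonneg (sub_nonneg.2 ha') (sub_nonneg.2 hb')) (show (0 : ℝ) ≤ a + b by positivity)]
  have h4 : (a : ℝ) - 1 ≠ 0 := by linarith
  have h5 : (b : ℝ) - 1 ≠ 0 := by linarith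
  refine ⟨(q - q') * ((a + b) * (a * b + 1) - 4 * a * b) / ((q + q' - 2) * (a - 1) * (b - 1)), ?_⟩
  push_cast at *
  field_simp
  linear_combination (q + q' - 2) / 2 * (e1 - e2) + (q - q') / 2 * e3

theorem Hk.odd_rat {τ : R →ₗ[ℝ] ℝ} {e A B : R} {a p : ℕ} (h : Hk τ e A B a a (2 * p + 1)) (ha : 2 ≤ a) {θ : ℝ}
    (h1 : sin θ ≠ 0) (h2 : sin ((p + 1 : ℕ) * θ) = -sin (p * θ)) : ∃ q : ℚ, cos θ = q := by
  have ha' : (2 : ℝ) ≤ a := by exact_mod_cast ha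
  have hα := sqrt_pos.2 (show (0 : ℝ) < a by linarith)
  obtain ⟨h3, h4⟩ := sum_odd (κ := 2 * cos θ) (s := fun i : ℕ => sin (i * θ) / sin θ) hα.ne' (by simp) (by simp [h1]) (sin_rec θ)
    (p := p) (by simp only [h2, neg_div])
  have h5 := pos_aux hα hα (cos_sq_lt h1)
  rw [mul_self_sqrt a.cast_nonneg, sq_sqrt a.cast_nonneg] at h3 h4 h5
  obtain ⟨q, hq⟩ := h.rat_of (by positivity) (by positivity) h3 (h4.trans (by push_cast; rfl)) h5
  have h6 : (a : ℝ) ^ 2 + 1 - a * (2 * cos θ) = q * (2 * a - a * (2 * cos θ)) :=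
    mul_left_cancel₀ (left_ne_zero_of_mul h5) (by rw [hq]; ring)
  have h7 : (q : ℝ) - 1 ≠ 0 := fun e => by rw [show (q : ℝ) = 1 by linarith] at h6; nlinarith
  refine ⟨(q * (2 * a) - a ^ 2 - 1) / (2 * a * (q - 1)), ?_⟩
  push_cast
  field_simp
  linear_combination h6

theorem niven_nat {n : ℕ} (hn : 2 ≤ n) (h : ∃ q : ℚ, cos (2 * π / n) = q) : n = 2 ∨ n = 3 ∨ n = 4 ∨ n = 6 := by
  have h0 : (2 : ℚ) ≤ n := by exact_mod_cast hn
  have h1 := niven_angle_div_pi_eq (r := 2 / n) (by push_cast; rwa [div_mul_eq_mul_div]) ⟨by positivity, (div_le_one (by linarith)).2 h0⟩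
  simp only [Set.mem_insert_iff, Set.mem_singleton_iff] at h1
  have h2 : (n : ℚ) ≠ 0 := by linarith
  rcases h1 with e | e | e | e | e <;> field_simp at e
  · simp at e
  all_goals norm_cast at e; omega

theorem sin_ne {n : ℕ} {j : ℝ} (h0 : 0 < j) (h : j < n) : sin (j * π / n) ≠ 0 := by
  have h1 : (0 : ℝ) < n := h0.trans h
  exact (sin_pos_of_pos_of_lt_pi (by positivity) (by rw [div_lt_iff₀ h1]; nlinarith [pi_pos])).ne'

/-- **Feit-Higman**, algebraic form. -/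
theorem Hk.main {τ : R →ₗ[ℝ] ℝ} {e A B : R} {a b n : ℕ} (h : Hk τ e A B a b n) (ha : 2 ≤ a) (hb : 2 ≤ b) (hn : 2 ≤ n)
    (ho : Odd n → a = b) : n = 2 ∨ n = 3 ∨ n = 4 ∨ n = 6 ∨ n = 8 := by
  obtain ⟨p, rfl | rfl⟩ := Nat.even_or_odd' n
  · by_cases hp : p = 1
    · omega
    have hp' : (2 : ℝ) ≤ p := by exact_mod_cast (by omega : 2 ≤ p)
    have key := fun (j : ℕ) h0 h1 => h.even_rat (θ := j * π / p) ha hb (sin_ne h0 h1) (by rw [mul_div_cancel₀ _ (by linarith)]; simp)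
    obtain ⟨q, hq⟩ := key 1 (by simp) (by push_cast; linarith)
    have h1 : (a : ℝ) * b * (2 * cos (π / p)) ^ 2 = q ^ 2 := by
      rw [← hq, mul_pow (√a * √b), mul_pow √a, sq_sqrt a.cast_nonneg, sq_sqrt b.cast_nonneg]; simp
    have h2 : (0 : ℝ) < a * b := by exact_mod_cast Nat.mul_pos (by omega) (by omega)
    rcases niven_nat (n := p) (by omega) ⟨q ^ 2 / (2 * a * b) - 1, by
      rw [mul_div_assoc, cos_two_mul]; push_cast; rw [← h1]; field_simp [left_ne_zero_of_mul h2.ne', right_ne_zero_of_mul h2.ne']⟩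
      with e | e | e | rfl
    iterate 3 omega
    obtain ⟨q', hq'⟩ := key 2 (by simp) (by norm_num)
    rw [show ((2 : ℕ) : ℝ) * π / (6 : ℕ) = π / 3 by push_cast; ring, cos_pi_div_three] at hq'
    rw [show ((1 : ℕ) : ℝ) * π / (6 : ℕ) = π / 6 by push_cast; ring, cos_pi_div_six] at hq
    have h3 : √a * √b ≠ 0 := by rw [← sqrt_mul a.cast_nonneg]; exact (sqrt_pos.2 h2).ne'
    exact absurd ⟨q / q', by push_cast; rw [← hq, ← hq']; field_simp⟩ Nat.prime_three.irrational_sqrt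
  · obtain rfl := ho ⟨p, rfl⟩
    have hp' : (1 : ℝ) ≤ p := by exact_mod_cast (by omega : 1 ≤ p)
    have := niven_nat hn (h.odd_rat ha (sin_ne two_pos (by push_cast; linarith)) (by
      rw [← sin_two_pi_sub]; congr 1; push_cast; field_simp; ring))
    omega

end Cfsg.Lib.BN.FH
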