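import Cfsg.Agent.Lib.BN.FH
import Cfsg.Agent.Lib.BN.Basic
import Cfsg.Agent.Lib.Invol.Basic

/-! The Feit-Higman theorem for finite groups with a BN-pair of rank two. -/

set_option autoImplicit false

namespace Cfsg.Lib.BN.FH

open Finset Classical

theorem alt_mul {R : Type*} [Ring R] [Algebra ℝ R] {e A B J : R} {a b : ℝ} (he : e * J = J) (hA : A * J = a • J) (hB : B * J = b • J) (p : ℕ) :
    (alt (A * ·) (B * ·) e (2 * p)).1 * J = (a * b) ^ p • J ∧ (alt (A * ·) (B * ·) e (2 * p)).2 * J = (a * b) ^ p • J := by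
  induction p with
  | zero => simpa [alt] using he
  | succ p ih =>
    rw [mul_add, mul_one]
    simp only [alt, mul_assoc, ih, mul_smul_comm, hA, hB, smul_smul, pow_succ, mul_comm b, and_self]

theorem alt_eq_iff {W : Type*} [Group W] {x y : W} (hx : x * x = 1) (hy : y * y = 1) (k : ℕ) :
    (alt (x * ·) (y * ·) 1 k).1 = (x * y) ^ k * (alt (x * ·) (y * ·) 1 k).2 ∧
      (alt (x * ·) (y * ·) 1 k).2 = (y * x) ^ k * (alt (x * ·) (y * ·) 1 k).1 := by
  have key : ∀ {x y : W} (k : ℕ), y * y = 1 → x * (y * x) ^ k = (x * y) ^ (k + 1) * y := fun {x y} k hy => by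
    rw [pow_succ, mul_assoc, mul_assoc, hy, mul_one, mul_pow_mul]
  induction k with
  | zero => simp [alt]
  | succ k ih =>
    simp only [alt]
    exact ⟨by rw [ih.2, ← mul_assoc, key k hy, mul_assoc], by rw [ih.1, ← mul_assoc, key k hx, mul_assoc]⟩

theorem alt_succ {W : Type*} [Group W] (x y : W) (k : ℕ) : ∃ u v, (u = x ∨ u = y) ∧ (v = x ∨ v = y) ∧
    (alt (x * ·) (y * ·) 1 (k + 1)).1 = (alt (x * ·) (y * ·) 1 k).1 * u ∧ (alt (x * ·) (y * ·) 1 (k + 1)).2 = (alt (x * ·) (y * ·) 1 k).2 * v := by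
  induction k with
  | zero => exact ⟨x, y, Or.inl rfl, Or.inr rfl, by simp [alt]⟩
  | succ k ih =>
    obtain ⟨u, v, h1, h2, h3, h4⟩ := ih
    exact ⟨v, u, h2, h1, (congrArg (x * ·) h4).trans (mul_assoc _ _ _).symm, (congrArg (y * ·) h3).trans (mul_assoc _ _ _).symm⟩

variable {G : Type*} [Group G] [Fintype G]

/-- the matrix of a subset of a finite group -/
noncomputable def ind (S : Set G) : Matrix G G ℝ := fun x y => if x⁻¹ * y ∈ S then 1 else 0

theorem ind_mul {S S' S'' : Set G} {H : Subgroup G} (h1 : ∀ x ∈ S, ∀ y ∈ S', x * y ∈ S'')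
    (h2 : ∀ g ∈ S'', ∃ k, ∀ x, x ∈ S ∧ x⁻¹ * g ∈ S' ↔ k⁻¹ * x ∈ H) : ind S * ind S' = (Nat.card H : ℝ) • ind S'' := by
  ext x y
  simp only [Matrix.mul_apply, ind, Matrix.smul_apply, smul_eq_mul, ite_zero_mul_ite_zero, mul_one, sum_boole]
  rw [mul_ite, mul_one, mul_zero]
  split_ifs with h
  · obtain ⟨k, hk⟩ := h2 _ h
    rw [Nat.card_eq_fintype_card, Fintype.card_subtype]
    refine congrArg _ (card_bij' (fun z _ => k⁻¹ * (x⁻¹ * z)) (fun z _ => x * (k * z)) (fun z hz => ?_) (fun z hz => ?_) (by simp) (by simp))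
    · simpa using (hk _).1 (by simpa [mul_assoc] using hz)
    · simpa [mul_assoc] using (hk (k * z)).2 (by simpa using hz)
  · exact Nat.cast_eq_zero.2 (card_eq_zero.2 (filter_eq_empty_iff.2 fun z _ hz => h (by simpa [mul_assoc] using h1 _ hz.1 _ hz.2)))

theorem ind_mul_left {S : Set G} {H : Subgroup G} (h : ∀ x ∈ H, ∀ y ∈ S, x * y ∈ S) : ind H * ind S = (Nat.card H : ℝ) • ind S :=
  ind_mul h fun g hg => ⟨1, fun x => by simpa using fun hx => h _ (inv_mem hx) g hg⟩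

variable {P : BNPair G}

variable (P) in
/-- the Hecke operators -/
noncomputable def hk (w : W P) : Matrix G G ℝ := (Nat.card P.B : ℝ)⁻¹ • ind (C P w)

theorem cB : (Nat.card P.B : ℝ) ≠ 0 := Nat.cast_ne_zero.2 Nat.card_pos.ne'

omit [Fintype G] in
theorem C_one : C P 1 = P.B := Set.ext fun _ => mem_C_one

theorem hk_mul {u v w : W P} (h : ind (C P u) * ind (C P v) = (Nat.card P.B : ℝ) • ind (C P w)) : hk P u * hk P v = hk P w := by
  simp only [hk, smul_mul_smul_comm, h, smul_smul, inv_mul_cancel_right₀ cB]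

theorem one_hk (w : W P) : hk P 1 * hk P w = hk P w := hk_mul (C_one (P := P) ▸ ind_mul_left fun _ hx _ => B_mul_mem_C hx)

theorem hk_one (w : W P) : hk P w * hk P 1 = hk P w := hk_mul (ind_mul (fun _ hx _ hy => mul_B_mem_C hx (mem_C_one.1 hy))
  fun g hg => ⟨g, fun x => ⟨fun e => by simpa using inv_mem (mem_C_one.1 e.2),
    fun e => ⟨by simpa using mul_B_mem_C hg e, mem_C_one.2 (by simpa using inv_mem e)⟩⟩⟩)

omit [Fintype G] in
theorem mem_or {s : P.S} {x y : G} (hx : x ∈ C P (sim P s)) (hy : y ∈ C P (sim P s)) : x⁻¹ * y ∈ P.B ∨ x⁻¹ * y ∈ C P (sim P s) :=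
  (mul_mem_C_left (sim_inv P s ▸ inv_mem_C hx) hy).imp_left fun e => mem_C_one.1 (sim_mul_self P s ▸ e)

theorem hk_up {s : P.S} {w : W P} (h : Up s w) : hk P (sim P s) * hk P w = hk P (sim P s * w) := by
  refine hk_mul (ind_mul h fun g hg => ?_)
  obtain ⟨n, rfl⟩ := toW_surjective P w
  obtain ⟨b, hb, b', hb', rfl⟩ := exists_eq_of_mem_C (h _ (mem_C_sim P s) _ (coe_mem_C P n)) hg
  have h1 := B_mul_mem_C hb (mem_C_sim P s)
  have h2 := mul_B_mem_C (coe_mem_C P n) hb'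
  refine ⟨b * s, fun x => ⟨fun e => ?_, fun e => ⟨mul_inv_cancel_left (b * s) x ▸ mul_B_mem_C h1 e, by simpa [mul_assoc] using B_mul_mem_C (inv_mem e) h2⟩⟩⟩
  rcases mem_or e.1 h1 with e' | e'
  · simpa using inv_mem e'
  · exact absurd (eq_of_mem_C (by simpa [mul_assoc] using h _ e' _ h2) e.2) (sim_mul_ne s _)

theorem one_univ : hk P 1 * ind Set.univ = ind Set.univ := by
  rw [hk, C_one, smul_mul_assoc, ind_mul_left (S := Set.univ) fun _ _ _ _ => trivial, smul_smul, inv_mul_cancel₀ cB, one_smul]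

theorem trace_hk {w : W P} (h : w ≠ 1) : (hk P w).trace = 0 :=
  sum_eq_zero fun x _ => by simp [hk, ind, show (1 : G) ∉ C P w from fun e => h (eq_of_mem_C e (mem_C_one.2 P.B.one_mem))]

theorem exists_param (s : P.S) : ∃ a : ℕ, 2 ≤ a ∧ hk P (sim P s) * hk P (sim P s) = ((a : ℝ) - 1) • hk P (sim P s) + (a : ℝ) • hk P 1 ∧
    hk P (sim P s) * ind Set.univ = (a : ℝ) • ind Set.univ := by
  let Q : Subgroup G :=
    { carrier := {g | g ∈ P.B ∨ g ∈ C P (sim P s)}
      one_mem' := Or.inl P.B.one_mem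
      inv_mem' := Or.imp inv_mem fun e => sim_inv P s ▸ inv_mem_C e
      mul_mem' := by
        rintro x y (hx | hx) (hy | hy)
        exacts [Or.inl (mul_mem hx hy), Or.inr (B_mul_mem_C hx hy), Or.inr (mul_B_mem_C hx hy),
          inv_inv x ▸ mem_or (sim_inv P s ▸ inv_mem_C hx) hy] }
  have hB : P.B ≤ Q := fun _ => Or.inl
  have hs : (s : G) ∈ Q := Or.inr (mem_C_sim P s)
  have h0 := not_mem_B P s.2
  have h1 : 3 ≤ P.B.relIndex Q := by
    obtain ⟨b, hb, h1⟩ := exists_conj_not_mem P s.2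
    have h2 : P.B.relIndex Q ≠ 0 := Subgroup.index_ne_zero_of_finite
    have h3 : P.B.relIndex Q ≠ 1 := fun e => h0 (Subgroup.relIndex_eq_one.1 e hs)
    have h4 : P.B.relIndex Q ≠ 2 := fun e => h1 ((Subgroup.mul_mem_iff_of_index_two e (a := ⟨_, mul_mem hs (hB hb)⟩) (b := ⟨_, hs⟩)).2
      (iff_of_false (fun e => h0 ((mul_mem_cancel_right hb).1 e)) h0))
    omega
  obtain ⟨a, ha⟩ := Nat.exists_eq_succ_of_ne_zero (by omega : P.B.relIndex Q ≠ 0)
  have h2 : (Nat.card Q : ℝ) = Nat.card P.B * (a + 1) := by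
    rw [← (P.B.subgroupOf Q).card_mul_index, Nat.card_congr (Subgroup.subgroupOfEquivOfLe hB).toEquiv]; exact_mod_cast congrArg _ ha
  have h3 : (Nat.card P.B : ℝ)⁻¹ • ind (Q : Set G) = hk P 1 + hk P (sim P s) := by
    rw [hk, hk, ← smul_add]
    congr 1
    ext x y
    by_cases e : x⁻¹ * y ∈ P.B
    · simp [ind, e, hB e, C_one, show x⁻¹ * y ∉ C P (sim P s) from fun e' => sim_ne_one P s (eq_of_mem_C e' (mem_C_one.2 e))]
    · simp [ind, e, C_one, show x⁻¹ * y ∈ Q ↔ x⁻¹ * y ∈ C P (sim P s) from or_iff_right e]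
  have key : ∀ S : Set G, (∀ x ∈ Q, ∀ y ∈ S, x * y ∈ S) → (hk P 1 + hk P (sim P s)) * ind S = ((a : ℝ) + 1) • ind S := fun S hS => by
    rw [← h3, smul_mul_assoc, ind_mul_left hS, smul_smul, h2, inv_mul_cancel_left₀ cB]
  refine ⟨a, by omega, ?_, ?_⟩
  · have := congrArg ((Nat.card P.B : ℝ)⁻¹ • ·) (key Q fun _ hx _ => mul_mem hx)
    simp only [← mul_smul_comm, smul_comm _ ((a : ℝ) + 1), h3] at this
    simp only [mul_add, add_mul, one_hk, hk_one] at this
    linear_combination (norm := module) this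
  · have := key Set.univ fun _ _ _ _ => trivial
    rw [add_mul, one_univ] at this
    linear_combination (norm := module) this

omit [Fintype G] in
theorem up_alt (s t : P.S) {k : ℕ} (hk : k < orderOf (sim P s * sim P t)) :
    Up s (alt (sim P s * ·) (sim P t * ·) 1 k).2 ∧ Up t (alt (sim P s * ·) (sim P t * ·) 1 k).1 := by
  induction k with
  | zero => exact ⟨up_one s, up_one t⟩
  | succ k ih =>
    obtain ⟨u, v, h1, h2, h3, h4⟩ := alt_succ (sim P s) (sim P t) k
    have h5 : (alt (sim P s * ·) (sim P t * ·) 1 (k + 1)).1 ≠ (alt (sim P s * ·) (sim P t * ·) 1 (k + 1)).2 := fun e =>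
      pow_ne_one_of_lt_orderOf k.succ_ne_zero hk (mul_eq_right.1 ((alt_eq_iff (sim_mul_self P s) (sim_mul_self P t) _).1.symm.trans e))
    obtain ⟨u, rfl⟩ : ∃ r, u = sim P r := h1.elim (⟨s, ·⟩) (⟨t, ·⟩)
    obtain ⟨v, rfl⟩ : ∃ r, v = sim P r := h2.elim (⟨s, ·⟩) (⟨t, ·⟩)
    exact ⟨by_contra fun e => h5 ((eq_of_up_of_not_up (ih (by omega)).1 (h4 ▸ e)).trans h4.symm),
      by_contra fun e => h5 ((eq_of_up_of_not_up (ih (by omega)).2 (h3 ▸ e)).trans h3.symm).symm⟩

theorem alt_hk (s t : P.S) {k : ℕ} (h : k ≤ orderOf (sim P s * sim P t)) :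
    alt (hk P (sim P s) * ·) (hk P (sim P t) * ·) (hk P 1) k =
      (hk P (alt (sim P s * ·) (sim P t * ·) 1 k).1, hk P (alt (sim P s * ·) (sim P t * ·) 1 k).2) := by
  induction k with
  | zero => rfl
  | succ k ih => simp only [alt, ih (by omega), hk_up (up_alt s t h).1, hk_up (up_alt s t h).2]

/-- **Feit-Higman** -/
theorem orderOf_mem {s t : P.S} (hst : s ≠ t) : orderOf (sim P s * sim P t) ∈ ({2, 3, 4, 6, 8} : Set ℕ) := by
  haveI : Finite (W P) := Finite.of_surjective _ (toW_surjective P)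
  obtain ⟨a, ha, h1, h2⟩ := exists_param s
  obtain ⟨b, hb, h3, h4⟩ := exists_param t
  have h0 := orderOf_pos (sim P s * sim P t)
  have h5 : orderOf (sim P s * sim P t) ≠ 1 := fun e =>
    hst (sim_injective P (by rw [eq_inv_of_mul_eq_one_left (orderOf_eq_one_iff.1 e), sim_inv]))
  have h6 : (alt (hk P (sim P s) * ·) (hk P (sim P t) * ·) (hk P 1) (orderOf (sim P s * sim P t))).1 =
      (alt (hk P (sim P s) * ·) (hk P (sim P t) * ·) (hk P 1) (orderOf (sim P s * sim P t))).2 := by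
    rw [alt_hk s t le_rfl, (alt_eq_iff (sim_mul_self P s) (sim_mul_self P t) _).1, pow_orderOf_eq_one, one_mul]
  refine Hk.main (τ := Matrix.traceLinearMap G ℝ ℝ) ⟨one_hk 1, one_hk _, one_hk _, h1, h3, h6, fun k hk => ?_, h0, fun x hx => ?_, ?_⟩
    ha hb (by omega) ?_
  · rw [alt_hk s t hk]
    exact ⟨trace_hk fun e => absurd (lt_len_of_up (up_alt s t hk).1) (by rw [show sim P s * _ = 1 from e, len_one]; omega),
      trace_hk fun e => absurd (lt_len_of_up (up_alt s t hk).2) (by rw [show sim P t * _ = 1 from e, len_one]; omega)⟩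
  · exact ⟨Module.finrank ℝ (LinearMap.range (Matrix.toLin' x)), (Matrix.trace_toLin'_eq x).symm.trans
      (((LinearMap.isProj_range_iff_isIdempotentElem _).2 (by rw [IsIdempotentElem, Module.End.mul_eq_comp, ← Matrix.toLin'_mul, hx])).trace.trans (by simp))⟩
  · simp [Matrix.trace, hk, ind, C_one, P.B.one_mem, Nat.card_pos.ne']
  · rintro ⟨p, hp⟩
    have h7 := alt_mul (one_univ (P := P)) h2 h4 p
    have h8 := congrArg (fun M : Matrix G G ℝ => (M * ind Set.univ : Matrix G G ℝ) 1 1) h6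
    simp only [hp, alt, mul_assoc, h7, mul_smul_comm, h2, h4] at h8
    simpa [ind, show a ≠ 0 by omega, show b ≠ 0 by omega] using h8

end Cfsg.Lib.BN.FH
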