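import Cfsg.Agent.Lib.BN.ZassFeit
import Cfsg.Agent.Lib.BS.Induct
import Mathlib.NumberTheory.Fermat

/-!
# The affine case; transitive groups of degree `p + 1` and order `(p + 1) p d`, `d < p`
-/

set_option autoImplicit false
set_option linter.unusedSectionVars false

namespace Cfsg.Lib.BN

open MulAction Subgroup Cfsg.Lib.Coprime Cfsg.Lib.Clifford Cfsg.Lib.Linear

universe u

variable {G : Type u} {Ω : Type*} [Group G] [MulAction G Ω] [Finite G] [Finite Ω] {a b c : Ω}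

/-- With a regular normal subgroup and an abelian kernel the group consists of semi-affine maps. -/
theorem Z3.affine (h : Z3 G Ω) (hab : a ≠ b) {R : Subgroup G} [hR : R.Normal] (ht : ∀ a b : Ω, ∃ r ∈ R, r • a = b)
    (hr : ∀ r ∈ R, r • a = a → r = 1) [IsMulCommutative (h.K a)] :
    ∃ (k : Type u) (_ : Field k) (_ : Finite k) (e : k ≃ Ω),
      (∀ g : G, ∃ (c w : k) (θ : k ≃+* k), c ≠ 0 ∧ ∀ y, g • e y = e (c * θ y + w)) ∧
      Nat.card (E2 G a b) ∣ Nat.card (k ≃+* k) := by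
  obtain ⟨r, hr0, e⟩ := ht a b
  have hr1 : r ≠ 1 := fun e' => hab (by rw [← e, e', one_smul])
  have hreg := Perm.stabilizer_subgroup_eq_bot_iff.2 hr
  obtain ⟨p, -, hc, -⟩ := Perm.elementary_of_regular_normal h.two' R
    (ne_bot_iff_exists_ne_one.mpr ⟨⟨r, hr0⟩, fun e => hr1 (congrArg Subtype.val e)⟩) a hreg
  have hext : ∀ m ∈ R, ∀ n ∈ R, m • a = n • a → m = n := fun m hm n hn =>
    Perm.eq_of_smul_eq_of_semiregular hreg hm hn
  have cj : ∀ {g : G}, g • a = a → ∀ m : G, (g * m * g⁻¹) • a = g • m • a := fun hg m => by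
    rw [mul_smul, mul_smul, inv_smul_eq_iff.2 hg.symm]
  have irr : ∀ M ≤ R, M ≠ ⊥ → Nrm (h.K a) M → M = R := fun M h1 h2 h3 => by
    obtain ⟨⟨m, hm⟩, hm1⟩ := ne_bot_iff_exists_ne_one.1 h2
    refine le_antisymm h1 fun n hn => ?_
    by_cases e : n = 1
    · exact e ▸ one_mem _
    obtain ⟨u, hu, e'⟩ := h.exists_K (a := a) (b := m • a) (c := n • a)
      (fun e' => hm1 (Subtype.ext (hr m (h1 hm) e'))) fun e' => e (hr n hn e')
    exact hext _ (hR.conj_mem m (h1 hm) u) n hn ((cj (h.K_fix hu) m).trans e') ▸ h3 u hu m hm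
  obtain ⟨k, _, _, τ, T, h1⟩ := exists_crd (A := h.K a) (nrm_of_normal _ R) irr hr0 hr1
  have sl : ∀ {g : G}, g • a = a → ∃ (θ : k ≃+* k) (c : k), c ≠ 0 ∧ ∀ y, g * τ y * g⁻¹ = τ (c * θ y) := fun hg =>
    let ⟨θ, c, h1, h2, _⟩ := T.semilinear irr (fun v hv => hR.conj_mem v hv _) fun _ hx => h.conj_mem_K hg hx
    ⟨θ, c, h1, h2⟩
  refine ⟨k, inferInstance, inferInstance, Equiv.ofBijective (fun y => τ y • a)
    ⟨fun y z e => T.inj (hext _ (T.mem y) _ (T.mem z) e), fun c => ?_⟩, fun g => ?_, ?_⟩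
  · obtain ⟨m, hm, rfl⟩ := ht a c
    obtain ⟨y, rfl⟩ := T.surj m hm
    exact ⟨y, rfl⟩
  · obtain ⟨m, hm, e⟩ := ht a (g • a)
    obtain ⟨w, rfl⟩ := T.surj m hm
    have hg : ((τ w)⁻¹ * g) • a = a := by rw [mul_smul, ← e, inv_smul_smul]
    obtain ⟨θ, c, h1, h2⟩ := sl hg
    refine ⟨c, w, θ, h1, fun y => ?_⟩
    change g • τ y • a = τ _ • a
    rw [add_comm, T.add, mul_smul, ← h2, cj hg, mul_smul,
      smul_inv_smul]
  · have : ∀ x : E2 G a b, ∃ θ : k ≃+* k, ∀ y, x * τ y * (x : G)⁻¹ = τ (θ y) := fun x => by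
      obtain ⟨θ, c, -, h2⟩ := sl (E2_fst x.2)
      have h3 : c * θ 1 = 1 := T.inj (hext _ (T.mem _) _ (T.mem _) (by
        rw [← h2, cj (E2_fst x.2), h1, e, E2_snd x.2]))
      rw [map_one, mul_one] at h3
      exact ⟨θ, by simpa [h3] using h2⟩
    choose θ hθ using this
    refine card_dvd_of_injective (MonoidHom.mk' θ fun x y => RingEquiv.ext fun z => T.inj ?_)
      ((injective_iff_map_eq_one _).2 fun x hx => Subtype.ext (h.faithful fun c => ?_))
    · rw [← hθ, RingAut.mul_apply, ← hθ, ← hθ, coe_mul]; group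
    · obtain ⟨m, hm, rfl⟩ := ht a c
      obtain ⟨y, rfl⟩ := T.surj m hm
      rw [← cj (E2_fst x.2), hθ, show θ x = 1 from hx]; rfl

omit [Finite G] in
theorem exists_zpow_of_prime [FaithfulSMul G Ω] {p : ℕ} (hp : p.Prime) (hΩ : Nat.card Ω = p + 1) {w : G}
    (hw : orderOf w = p) (ha : w • a = a) (hb : b ≠ a) (hc : c ≠ a) : w • b ≠ b ∧ ∃ j : ℤ, w ^ j • b = c := by
  classical
  have := Fintype.ofFinite Ω
  rw [Nat.card_eq_fintype_card] at hΩ
  have h1 : orderOf (toPermHom G Ω w) = p := (orderOf_injective _ toPerm_injective w).trans hw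
  have h2 := Equiv.Perm.isCycle_of_prime_order' (h1 ▸ hp) (by rw [h1, hΩ]; have := hp.two_le; omega)
  have h3 : (toPermHom G Ω w).support = Finset.univ.erase a := Finset.eq_of_subset_of_card_le
    (fun x hx => Finset.mem_erase.2 ⟨fun e => Equiv.Perm.mem_support.1 hx (e ▸ ha), Finset.mem_univ _⟩)
    (by rw [← h2.orderOf, h1, Finset.card_erase_of_mem (Finset.mem_univ _), Finset.card_univ, hΩ]; rfl)
  have h4 : ∀ x, x ≠ a → toPermHom G Ω w x ≠ x := fun x hx =>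
    Equiv.Perm.mem_support.1 (h3 ▸ Finset.mem_erase.2 ⟨hx, Finset.mem_univ _⟩)
  obtain ⟨j, e⟩ := h2.exists_zpow_eq (h4 b hb) (h4 c hc)
  exact ⟨h4 b hb, j, by rwa [← map_zpow] at e⟩

theorem z3_of_prime_add_one [FaithfulSMul G Ω] [IsPretransitive G Ω] {p d : ℕ} (hp : p.Prime)
    (hΩ : Nat.card Ω = p + 1) (hG : Nat.card G = (p + 1) * p * d) (hd : d < p) : Z3 G Ω := by
  have := Fact.mk hp
  have key : ∀ a : Ω, ∃ u : G, orderOf u = p ∧ u • a = a ∧ ∀ g : G, g • a = a → g * u * g⁻¹ ∈ zpowers u := fun a => by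
    have h1 : Nat.card (stabilizer G a) = p * d := Nat.eq_of_mul_eq_mul_left p.succ_pos (by
      rw [← mul_assoc, ← hG, Perm.card_eq_mul_of_transitive (G := G) a, hΩ])
    have hd0 : 0 < d := Nat.pos_of_mul_pos_left (h1 ▸ Nat.card_pos)
    obtain ⟨u, hu⟩ := exists_prime_orderOf_dvd_card' (G := stabilizer G a) p (h1 ▸ dvd_mul_right _ _)
    have h2 : (zpowers u).index = d := Nat.eq_of_mul_eq_mul_left hp.pos (by
      rw [← h1, ← (zpowers u).card_mul_index, Nat.card_zpowers, hu])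
    let P := (IsPGroup.of_card (n := 1) (G := zpowers u) (by rw [Nat.card_zpowers, hu, pow_one])).toSylow
      (h2 ▸ Nat.not_dvd_of_pos_of_lt hd0 hd)
    have h3 : Nat.card (Sylow p (stabilizer G a)) = 1 := by
      have h4 := Nat.le_of_dvd (h2 ▸ hd0) P.card_dvd_index
      have h5 := card_sylow_modEq_one p (stabilizer G a)
      rwa [Nat.ModEq, Nat.mod_eq_of_lt (h4.trans_lt (h2 ▸ hd)), Nat.mod_eq_of_lt hp.one_lt] at h5
    have := (Nat.card_eq_one_iff_unique.1 h3).1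
    refine ⟨u, by rw [orderOf_coe, hu], u.2, fun g hg => ?_⟩
    obtain ⟨i, e⟩ := (Sylow.normal_of_subsingleton P).conj_mem u (mem_zpowers u) ⟨g, hg⟩
    exact ⟨i, congrArg Subtype.val e⟩
  have nt : Nontrivial Ω := Finite.one_lt_card_iff_nontrivial.1 (by have := hp.pos; omega)
  refine ⟨fun {a b c d} hab hcd => ?_, fun {g a b c} hab hbc hac ha hb hc => ?_,
    fun hg => eq_of_smul_eq_smul (α := Ω) fun a => by rw [hg, one_smul], nt⟩
  · obtain ⟨g, rfl⟩ := exists_smul_eq G a c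
    obtain ⟨u, hu, h1, -⟩ := key (g • a)
    obtain ⟨-, j, e⟩ := exists_zpow_of_prime hp hΩ hu h1 ((MulAction.injective g).ne hab.symm) hcd.symm
    exact ⟨u ^ j * g, by rw [mul_smul]; exact zpow_mem (show u ∈ stabilizer G _ from h1) j, by rw [mul_smul, e]⟩
  · obtain ⟨u, hu, h1, h2⟩ := key a
    have ho : ∀ v ∈ zpowers u, v ≠ 1 → orderOf v = p := fun v hv hv1 =>
      ((Nat.dvd_prime hp).1 (hu ▸ orderOf_dvd_of_mem_zpowers hv)).resolve_left (mt orderOf_eq_one_iff.1 hv1)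
    have hle : zpowers u ≤ stabilizer G a := zpowers_le_of_mem h1
    obtain ⟨-, j, e⟩ := exists_zpow_of_prime hp hΩ hu h1 hab.symm hac.symm
    have h3 : g * u ^ j * g⁻¹ ∈ zpowers u := by rw [← conj_zpow]; exact zpow_mem (h2 g ha) j
    have h4 := mul_mem (inv_mem (zpow_mem_zpowers u j)) h3
    have h5 : (u ^ j)⁻¹ * (g * u ^ j * g⁻¹) = 1 := by
      by_contra hn
      refine (exists_zpow_of_prime hp hΩ (ho _ h4 hn) (hle h4) hab.symm hab.symm).1 ?_
      rw [mul_smul, mul_smul, mul_smul, inv_smul_eq_iff.2 hb.symm, e, hc, ← e, inv_smul_smul]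
    refine eq_of_smul_eq_smul (α := Ω) fun x => ?_
    by_cases hx : x = a
    · rw [hx, ha, one_smul]
    obtain ⟨-, i, rfl⟩ := exists_zpow_of_prime hp hΩ (ho _ (zpow_mem_zpowers u j) fun e' => hbc (by
      rw [← e, e', one_smul])) (hle (zpow_mem_zpowers u j)) hab.symm hx
    have h6 : Commute g (u ^ j) := mul_inv_eq_iff_eq_mul.1 (inv_mul_eq_one.1 h5).symm
    rw [one_smul, ← mul_smul, (h6.zpow_right i).eq, mul_smul, hb]

theorem classify_prime_add_one [FaithfulSMul G Ω] [IsPretransitive G Ω] {p d : ℕ} [hp : Fact p.Prime]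
    (hΩ : Nat.card Ω = p + 1) (hG : Nat.card G = (p + 1) * p * d) (hd : d < p) :
    (d = p - 1 ∧ Nonempty (G ≃* PGL2 (ZMod p))) ∨ (2 * d = p - 1 ∧ Nonempty (G ≃* PSL2 (ZMod p))) ∨
      ∃ (q : ℕ) (_ : q.Prime), p + 1 = 2 ^ q ∧ (d = 1 ∨ d = q) ∧ ∃ e : GaloisField 2 q ≃ Ω,
        ∀ g : G, ∃ c w, ∃ θ : GaloisField 2 q ≃+* GaloisField 2 q, c ≠ 0 ∧ ∀ y, g • e y = e (c * θ y + w) := by
  have h := z3_of_prime_add_one hp.out hΩ hG hd
  obtain ⟨a, b, hab⟩ := h.nontriv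
  have hK : Nat.card (h.K a) = p := by have := h.card_K a; omega
  have hE : Nat.card (E2 G a b) = d := Nat.eq_of_mul_eq_mul_left (mul_pos p.succ_pos hp.out.pos) (by
    rw [← hG, h.card_G hab, hK])
  have := (isCyclic_of_prime_card hK).isMulCommutative
  have pgl : (∃ (k : Type u) (_ : Field k) (_ : Finite k), Nat.card k = Nat.card (h.K a) ∧ Nonempty (G ≃* PGL2 k)) →
      Nonempty (G ≃* PGL2 (ZMod p)) := fun ⟨k, _, _, hk, ⟨e⟩⟩ =>
    (nonempty_pgl_equiv_of_card_eq (by rw [hk, hK, Nat.card_zmod])).map e.trans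
  have hd0 : 0 < d := hE ▸ Nat.card_pos
  obtain rfl | hp2 := hp.out.eq_two_or_odd'
  · obtain rfl : d = 1 := by omega
    refine Or.inl ⟨rfl, pgl (h.pgl_of_invE hab (fun s _ x hx => ?_) (by rw [hE, hK]))⟩
    simp [mem_bot.1 (card_eq_one.1 hE ▸ hx)]
  by_cases hR : ∃ R : Subgroup G, R.Normal ∧ (∀ a b : Ω, ∃ r ∈ R, r • a = b) ∧ ∀ r ∈ R, ∀ a : Ω, r • a = a → r = 1
  · obtain ⟨R, _, h1, h2⟩ := hR
    obtain ⟨k, _, _, e, h3, h4⟩ := h.affine hab h1 fun r hr => h2 r hr a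
    have := Fintype.ofFinite k
    obtain ⟨r, _, q, hr, hk⟩ := FiniteField.card' k
    rw [← Nat.card_eq_fintype_card] at hk
    have h5 : p + 1 = r ^ (q : ℕ) := by rw [← hΩ, ← hk, Nat.card_congr e]
    obtain rfl : r = 2 := (hr.even_iff).1 (Nat.even_pow.1 (h5 ▸ hp2.add_one)).1
    have hq : (q : ℕ).Prime := (Nat.prime_of_pow_sub_one_prime (a := 2) (fun e => by
      rw [e] at h5; have := hp.out.two_le; omega) (by rw [← h5]; exact hp.out)).2
    rw [hE, BS.card_aut hk] at h4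
    obtain ⟨φ⟩ := nonempty_ringEquiv_of_card_eq (hk.trans (GaloisField.card 2 q q.ne_zero).symm)
    refine Or.inr (Or.inr ⟨q, hq, h5, (Nat.dvd_prime hq).1 h4, φ.symm.toEquiv.trans e, fun g => ?_⟩)
    obtain ⟨c, w, θ, hc, h6⟩ := h3 g
    exact ⟨φ c, φ w, φ.symm.trans (θ.trans φ), by simpa using hc, fun y => by simp [h6]⟩
  have hE1 : E2 G a b ≠ ⊥ := fun e => by
    obtain ⟨g, hg⟩ := h.one a b
    obtain ⟨R, h1, -, h2⟩ := h.exists_regular (N := ⊤) (ne_bot_iff_exists_ne_one.2 ⟨⟨g, trivial⟩, fun e' => hab (by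
      rw [← hg, show g = 1 from congrArg Subtype.val e', one_smul])⟩) fun c d hcd x _ hx =>
        by_contra fun hx1 => h.E2_ne_bot hcd hab (ne_bot_iff_exists_ne_one.2 ⟨⟨x, hx⟩, mt Subtype.ext_iff.1 hx1⟩) e
    exact hR ⟨R, h1, h2⟩
  have hZ := zass_of h hab hE1 fun R h1 h2 h3 => hR ⟨R, h1, h2, h3⟩
  obtain h1 | h1 := h.eq_or_eq_of_large hab hE1 (zass_large_of_comm hZ h hab this)
  · exact Or.inl ⟨by rw [← hE, h1, hK], pgl (h.pgl_of_sharp_even hab h1
      (by rw [h1, hK]; exact Nat.Odd.sub_odd hp2 odd_one) hp.out odd_one (by rw [hK, pow_one]))⟩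
  · obtain ⟨k, _, _, hk, -, ⟨e⟩⟩ := zass_psl_of_half hZ h hab h1
    exact Or.inr (Or.inl ⟨by rw [← hE, h1, hK],
      (nonempty_psl_equiv_of_card_eq (by rw [hk, hK, Nat.card_zmod])).map e.trans⟩)

end Cfsg.Lib.BN
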